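/-
Binomial coefficients `C(B + k, k)`, `k ≤ B`, without prime factors `≤ B`.
-/
import Mathlib

set_option autoImplicit false

namespace Cfsg.Agent.AltHall

open Finset

/-- Among six consecutive numbers four are divisible by 2 or by 3. -/
lemma six_ind (x : ℕ) : (∑ i ∈ Finset.range 6, if (x + i) % 2 = 0 ∨ (x + i) % 3 = 0 then 1 else 0) = 4 := by
  have key : ∀ r : Fin 6, (∑ i ∈ Finset.range 6, if (r.1 + i) % 2 = 0 ∨ (r.1 + i) % 3 = 0 then 1 else 0) = 4 := by
    decide
  refine Eq.trans (Finset.sum_congr rfl fun i _ => ?_) (key ⟨x % 6, Nat.mod_lt _ (by norm_num)⟩)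
  rw [show (x + i) % 2 = (x % 6 + i) % 2 by omega, show (x + i) % 3 = (x % 6 + i) % 3 by omega]

/-- In `k` consecutive numbers at least `(2k-4)/3` are divisible by 2 or by 3. -/
lemma count_six (B k : ℕ) :
    2 * k ≤ 3 * ((Finset.range k).filter (fun i => (B + 1 + i) % 2 = 0 ∨ (B + 1 + i) % 3 = 0)).card + 4 := by
  induction k using Nat.strongRecOn with
  | ind k ih =>
    rw [Finset.card_filter]
    rcases Nat.lt_or_ge k 6 with h | h
    · interval_cases k <;>
        simp only [Finset.sum_range_succ, Finset.range_zero, Finset.sum_empty] <;>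
        (try split_ifs) <;> omega
    · obtain ⟨j, rfl⟩ : ∃ j, k = j + 6 := ⟨k - 6, by omega⟩
      have := ih j (by omega)
      rw [Finset.card_filter] at this
      rw [Finset.sum_range_add]
      have h4 := six_ind (B + 1 + j)
      simp only [Nat.add_assoc] at h4 this ⊢
      omega

lemma pow_six_lt {k : ℕ} (hk : 9 ≤ k) : k ^ 6 < 4 ^ k * 4 := by
  induction k, hk using Nat.le_induction with
  | base => norm_num
  | succ m hm ih =>
    have h9 : 9 * (m + 1) ≤ 10 * m := by omega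
    have := Nat.pow_le_pow_left h9 6
    rw [mul_pow, mul_pow] at this
    norm_num at this
    have : (m + 1) ^ 6 ≤ 4 * m ^ 6 := by omega
    calc (m + 1) ^ 6 ≤ 4 * m ^ 6 := this
      _ < 4 * (4 ^ m * 4) := Nat.mul_lt_mul_of_pos_left ih (by norm_num)
      _ = 4 ^ (m + 1) * 4 := by ring

lemma succ_pow_ge (a m : ℕ) : a ^ m * (a + m) ≤ (a + 1) ^ m * a := by
  induction m with
  | zero => simp
  | succ m ih =>
    rw [pow_succ, pow_succ]
    nlinarith [Nat.mul_le_mul_right (a + 1) ih, Nat.zero_le (a ^ m * m)]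

lemma not_prime_of_six {x : ℕ} (hx : 3 < x) (h : x % 2 = 0 ∨ x % 3 = 0) : ¬ x.Prime := by
  intro hp
  rcases h with h | h
  · exact (by omega : ¬ x = 2) ((Nat.prime_dvd_prime_iff_eq Nat.prime_two hp).1 (Nat.dvd_of_mod_eq_zero h)).symm
  · exact (by omega : ¬ x = 3) ((Nat.prime_dvd_prime_iff_eq Nat.prime_three hp).1 (Nat.dvd_of_mod_eq_zero h)).symm

lemma coprime_of_small {N x B : ℕ} (hN : ∀ p, p.Prime → p ≤ B → ¬ p ∣ N)
    (hx : ∀ p, p.Prime → p ∣ x → p ≤ B) : N.Coprime x :=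
  Nat.coprime_of_dvd fun p hp h1 h2 => hN p hp (hx p hp h2) h1

lemma prime_le_of_composite {x B : ℕ} (h1 : ¬ x.Prime) (hx : 1 < x) (h2 : x ≤ 2 * B + 1) :
    ∀ p, p.Prime → p ∣ x → p ≤ B := by
  rintro p hp ⟨m, rfl⟩
  have hm : m ≠ 1 := by rintro rfl; simp [hp] at h1
  have hm0 : m ≠ 0 := by rintro rfl; simp at hx
  have : p * 2 ≤ p * m := Nat.mul_le_mul_left p (by omega)
  omega

/-- The product of the composites in `(B, B+k]` divides `k!`. -/
lemma pow_count_le (B k : ℕ) (hB : 3 ≤ B) (hk : k ≤ B)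
    (hN : ∀ p, p.Prime → p ≤ B → ¬ p ∣ (B + k).choose k) :
    B ^ ((Finset.range k).filter (fun i => (B + 1 + i) % 2 = 0 ∨ (B + 1 + i) % 3 = 0)).card ≤
      k.factorial := by
  set S := (Finset.range k).filter (fun i => (B + 1 + i) % 2 = 0 ∨ (B + 1 + i) % 3 = 0) with hS
  have hdvd : ∏ i ∈ S, (B + 1 + i) ∣ k.factorial * (B + k).choose k := by
    rw [← Nat.ascFactorial_eq_factorial_mul_choose, Nat.ascFactorial_eq_prod_range]
    exact Finset.prod_dvd_prod_of_subset _ _ _ (Finset.filter_subset _ _)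
  have hco : (∏ i ∈ S, (B + 1 + i)).Coprime ((B + k).choose k) := by
    apply Nat.Coprime.prod_left
    intro i hi
    rw [hS, Finset.mem_filter, Finset.mem_range] at hi
    exact (coprime_of_small hN (prime_le_of_composite (not_prime_of_six (by omega) hi.2)
      (by omega) (by omega))).symm
  have := Nat.le_of_dvd (Nat.factorial_pos k) (hco.dvd_of_dvd_mul_right hdvd)
  refine le_trans ?_ this
  rw [← Finset.prod_const]
  exact Finset.prod_le_prod' fun i _ => by omega

lemma factorial_le_half_pow {k : ℕ} (hk : 6 ≤ k) : 2 ^ k * k.factorial ≤ k ^ k := by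
  induction k, hk using Nat.le_induction with
  | base => decide
  | succ k hk ih =>
    have h1 : 2 * k ^ k ≤ (k + 1) ^ k := by
      have hk0 : k ≠ 0 := by omega
      have h := succ_pow_ge k k
      refine Nat.le_of_mul_le_mul_right (?_ : 2 * k ^ k * k ≤ (k + 1) ^ k * k) (by omega)
      linarith
    calc 2 ^ (k + 1) * (k + 1).factorial = (k + 1) * (2 * (2 ^ k * k.factorial)) := by
          rw [Nat.factorial_succ]; ring
      _ ≤ (k + 1) * (2 * k ^ k) := by gcongr
      _ ≤ (k + 1) * (k + 1) ^ k := by gcongr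
      _ = (k + 1) ^ (k + 1) := by ring

/-- `C(2B-1, B)` is divisible by a prime `≤ B` unless `B = 4`. -/
lemma odd_choose_pow (B : ℕ) (hB : 1 ≤ B) (h : ¬ 2 ∣ (2 * B - 1).choose B) : ∃ a, B = 2 ^ a := by
  induction B using Nat.strongRecOn with
  | ind B ih =>
    haveI : Fact (Nat.Prime 2) := ⟨Nat.prime_two⟩
    have key := Choose.choose_modEq_choose_mod_mul_choose_div_nat (n := 2 * B - 1) (k := B) (p := 2)
    rcases Nat.even_or_odd B with ⟨m, rfl⟩ | ⟨m, rfl⟩
    · rw [show (m + m) % 2 = 0 by omega, Nat.choose_zero_right, one_mul,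
        show (2 * (m + m) - 1) / 2 = 2 * m - 1 by omega, show (m + m) / 2 = m by omega] at key
      obtain ⟨a, ha⟩ := ih m (by omega) (by omega) fun hd => h ((key.dvd_iff dvd_rfl).2 hd)
      exact ⟨a + 1, by rw [pow_succ]; omega⟩
    · rcases Nat.eq_zero_or_pos m with rfl | hm
      · exact ⟨0, rfl⟩
      exfalso
      rw [show (2 * (2 * m + 1) - 1) % 2 = 1 by omega, show (2 * m + 1) % 2 = 1 by omega,
        Nat.choose_self, one_mul,
        show (2 * (2 * m + 1) - 1) / 2 = 2 * m by omega, show (2 * m + 1) / 2 = m by omega] at key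
      apply h
      rw [key.dvd_iff dvd_rfl]
      exact Nat.two_dvd_centralBinom_of_one_le hm

lemma three_pow_eq {s j : ℕ} (hs : 3 ≤ s) (h : 2 ^ s + 1 = 3 ^ j) : s = 3 := by
  rcases Nat.even_or_odd j with ⟨i, rfl⟩ | ⟨i, rfl⟩
  · have hi : 1 ≤ 3 ^ i := Nat.one_le_pow _ _ (by norm_num)
    obtain ⟨u, hu⟩ : ∃ u, 3 ^ i = u + 1 := ⟨3 ^ i - 1, by omega⟩
    have h2 : u * (u + 2) = 2 ^ s := by
      rw [pow_add, hu] at h; nlinarith
    obtain ⟨e, he, rfl⟩ := (Nat.dvd_prime_pow Nat.prime_two).1 ⟨u + 2, h2.symm⟩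
    obtain ⟨f, hf, hf2⟩ := (Nat.dvd_prime_pow Nat.prime_two).1 ⟨2 ^ e, (h2.symm.trans (mul_comm _ _))⟩
    rcases e with _ | _ | e
    · rcases f with _ | _ | f <;> simp [pow_succ] at hf2 <;> omega
    · rw [pow_one] at h2
      have h8 : (2 : ℕ) ^ 3 = 2 ^ s := by rw [← h2]; norm_num
      exact (Nat.pow_right_injective le_rfl h8).symm
    · have he4 : 4 ∣ 2 ^ (e + 1 + 1) := ⟨2 ^ e, by ring⟩
      have : 2 ≤ f := by
        by_contra hc
        have := Nat.one_le_two_pow (n := e + 1 + 1)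
        have : 2 ^ f ≤ 2 ^ 1 := Nat.pow_le_pow_right (by norm_num) (by omega)
        omega
      have := Nat.one_le_two_pow (n := e + 1 + 1)
      have hf4 : 4 ∣ 2 ^ f := ⟨2 ^ (f - 2), by rw [show (4:ℕ) = 2 ^ 2 by norm_num, ← pow_add]; congr 1; omega⟩
      omega
  · exfalso
    have h3 : 3 ^ (2 * i + 1) % 8 = 3 := by
      rw [pow_succ, pow_mul, Nat.mul_mod, Nat.pow_mod]; norm_num
    have : 8 ∣ 2 ^ s := ⟨2 ^ (s - 3), by rw [show (8:ℕ) = 2 ^ 3 by norm_num, ← pow_add]; congr 1; omega⟩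
    generalize 2 ^ s = X at *
    generalize 3 ^ (2 * i + 1) = Y at *
    omega

lemma central (B : ℕ) (hB : 3 ≤ B) (h : ∀ p, p.Prime → p ≤ B → ¬ p ∣ (2 * B - 1).choose B) : B = 4 := by
  obtain ⟨a, rfl⟩ := odd_choose_pow B (by omega) (h 2 Nat.prime_two (by omega))
  by_contra hne
  have ha2 : 2 ≤ a := by
    by_contra hc
    have : 2 ^ a ≤ 2 ^ 1 := Nat.pow_le_pow_right (by norm_num) (by omega)
    omega
  have ha3 : 3 ≤ a := by
    rcases Nat.lt_or_ge a 3 with hc | hc
    · exact absurd (by rw [show a = 2 by omega]; norm_num) hne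
    · exact hc
  -- a prime `p` with `(2B-1) % p < B % p`
  have key : ∀ p, p.Prime → p ≤ 2 ^ a → (2 * 2 ^ a - 1) % p < 2 ^ a % p → False := by
    intro p hp hle hlt
    haveI : Fact p.Prime := ⟨hp⟩
    have k := Choose.choose_modEq_choose_mod_mul_choose_div_nat (n := 2 * 2 ^ a - 1) (k := 2 ^ a) (p := p)
    rw [Nat.choose_eq_zero_of_lt hlt, zero_mul] at k
    exact h p hp hle (Nat.modEq_zero_iff_dvd.1 k)
  by_cases hp : (2 ^ a + 1).Prime
  · have hae : Even a := by
      rcases Nat.even_or_odd a with he | ⟨i, rfl⟩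
      · exact he
      · exfalso
        have h3 : 3 ∣ 2 ^ (2 * i + 1) + 1 := by
          have : 2 ^ (2 * i + 1) % 3 = 2 := by rw [pow_succ, pow_mul, Nat.mul_mod, Nat.pow_mod]; norm_num
          omega
        have := (Nat.prime_dvd_prime_iff_eq Nat.prime_three hp).1 h3
        omega
    obtain ⟨s, rfl⟩ : ∃ s, a = s + 1 := ⟨a - 1, by omega⟩
    have hs3 : 3 ≤ s := by rcases hae with ⟨i, hi⟩; omega
    by_cases h5 : ∃ p, p.Prime ∧ p ∣ 2 ^ s + 1 ∧ p ≠ 3
    · obtain ⟨p, hpp, ⟨m, hm⟩, hp3⟩ := h5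
      have h8 : 2 ^ 3 ≤ 2 ^ s := Nat.pow_le_pow_right (by norm_num) hs3
      have hp2 : p ≠ 2 := by
        rintro rfl
        have : 2 ∣ 2 ^ s := dvd_pow_self 2 (by omega)
        omega
      have hp4 : p ≠ 4 := by rintro rfl; norm_num at hpp
      have := hpp.two_le
      have hm0 : m ≠ 0 := by rintro rfl; omega
      have hle : p ≤ p * m := Nat.le_mul_of_pos_right p (by omega)
      apply key p hpp (by rw [pow_succ]; omega)
      have e1 : 2 ^ (s + 1) = p * (2 * m - 1) + (p - 2) := by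
        obtain ⟨m', rfl⟩ : ∃ m', m = m' + 1 := ⟨m - 1, by omega⟩
        rw [pow_succ, show 2 * (m' + 1) - 1 = 2 * m' + 1 by omega,
          show p * (2 * m' + 1) = 2 * (p * m') + p by ring]
        rw [mul_add, mul_one] at hm
        omega
      have e2 : 2 * 2 ^ (s + 1) - 1 = p * (2 * (2 * m - 1) + 1) + (p - 5) := by
        rw [show p * (2 * (2 * m - 1) + 1) = 2 * (p * (2 * m - 1)) + p by ring]; omega
      rw [e2, e1, Nat.mul_add_mod, Nat.mul_add_mod, Nat.mod_eq_of_lt (by omega), Nat.mod_eq_of_lt (by omega)]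
      omega
    · push Not at h5
      have h3 : ∀ d, d.Prime → d ∣ 2 ^ s + 1 → d = 3 := fun d hd hdd => h5 d hd hdd
      have := Nat.eq_prime_pow_of_unique_prime_dvd (n := 2 ^ s + 1) (p := 3) (by positivity) (fun {d} hd hdd => h3 d hd hdd)
      have hs := three_pow_eq hs3 this
      subst hs
      apply key 3 Nat.prime_three (by norm_num)
      · exact absurd (h 3 Nat.prime_three (by norm_num)) (by decide +kernel)
  · obtain ⟨p, hpp, m, hm⟩ := Nat.exists_prime_and_dvd (n := 2 ^ a + 1) (by simp)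
    have hlt := prime_le_of_composite (B := 2 ^ a) hp (by have := Nat.one_le_two_pow (n := a); omega)
      (by have := Nat.one_le_two_pow (n := a); omega) p hpp ⟨m, hm⟩
    have hp2 : p ≠ 2 := by
      rintro rfl
      have : 2 ∣ 2 ^ a := dvd_pow_self 2 (by omega)
      omega
    have := hpp.two_le
    have hm0 : m ≠ 0 := by rintro rfl; omega
    obtain ⟨m', rfl⟩ : ∃ m', m = m' + 1 := ⟨m - 1, by omega⟩
    apply key p hpp hlt
    rw [mul_add, mul_one] at hm
    have e1 : 2 ^ a = p * m' + (p - 1) := by omega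
    have e2 : 2 * 2 ^ a - 1 = p * (2 * m' + 1) + (p - 3) := by
      rw [show p * (2 * m' + 1) = 2 * (p * m') + p by ring]; omega
    rw [e2, e1, Nat.mul_add_mod, Nat.mul_add_mod, Nat.mod_eq_of_lt (by omega), Nat.mod_eq_of_lt (by omega)]
    omega

/-- The pair lemma. -/
theorem pair (B k : ℕ) (hB : 3 ≤ B) (hk : 1 ≤ k) (hkB : k ≤ B)
    (hN : ∀ p, p.Prime → p ≤ B → ¬ p ∣ (B + k).choose k) :
    (k = 1 ∧ (B + 1).Prime) ∨ (B = 4 ∧ k = 3) := by
  rcases eq_or_lt_of_le hk with rfl | hk2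
  · left
    refine ⟨rfl, ?_⟩
    by_contra hp
    obtain ⟨p, hpp, hpd⟩ := Nat.exists_prime_and_dvd (n := B + 1) (by omega)
    exact hN p hpp (prime_le_of_composite hp (by omega) (by omega) p hpp hpd) (by simpa using hpd)
  rcases eq_or_lt_of_le hkB with rfl | hkB'
  · exfalso
    refine hN 2 Nat.prime_two (by omega) ?_
    rw [← two_mul]
    exact Nat.two_dvd_centralBinom_of_one_le (by omega)
  rcases eq_or_lt_of_le (Nat.succ_le_of_lt hkB') with hBk | hBk
  · right
    have : B = 4 := by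
      refine central B hB fun p hp hle hd => hN p hp hle ?_
      rwa [show B + k = 2 * B - 1 by omega, show k = 2 * B - 1 - B by omega,
        Nat.choose_symm (by omega)]
    omega
  exfalso
  -- two steps along the row
  have co : ∀ x, 1 ≤ x → x ≤ B → x.Coprime ((B + k).choose k) := fun x hx hxB =>
    (coprime_of_small hN fun p _ hd => le_trans (Nat.le_of_dvd (by omega) hd) hxB).symm
  have id1 : (B + k).choose (k + 1) * (k + 1) = (B + k).choose k * B := by
    rw [Nat.choose_succ_right_eq, Nat.add_sub_cancel]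
  have id2 : (B + k).choose (k + 2) * (k + 2) = (B + k).choose (k + 1) * (B - 1) := by
    rw [show k + 2 = k + 1 + 1 from rfl, Nat.choose_succ_right_eq]; congr 1; omega
  have d1 : k + 1 ∣ B := (co (k + 1) (by omega) (by omega)).dvd_of_dvd_mul_left
    ⟨(B + k).choose (k + 1), by rw [← id1, mul_comm]⟩
  obtain ⟨j, hj⟩ := d1
  have d2 : k + 2 ∣ j * (B - 1) := by
    apply (co (k + 2) (by omega) (by omega)).dvd_of_dvd_mul_left
    have e : (B + k).choose (k + 1) = (B + k).choose k * j := by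
      apply Nat.eq_of_mul_eq_mul_right (show 0 < k + 1 by omega)
      rw [id1, hj]; ring
    exact ⟨(B + k).choose (k + 2), by rw [← mul_assoc, ← e, ← id2, mul_comm]⟩
  have d3 : k + 2 ∣ j * (j + 1) := by
    have e : j * (B - 1) + j * (j + 1) = (k + 2) * (j * j) := by
      rw [← mul_add, show B - 1 + (j + 1) = B + j by omega, hj]; ring
    exact (Nat.dvd_add_right d2).1 ⟨j * j, e⟩
  have hj2 : 2 ≤ j := by
    by_contra hc
    have : (k + 1) * j ≤ (k + 1) * 1 := Nat.mul_le_mul_left _ (by omega)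
    omega
  have hj3 : k + 2 ≤ j * (j + 1) := Nat.le_of_dvd (by positivity) d3
  have hc := count_six B k
  have hp := pow_count_le B k hB hkB hN
  have hc2 : k = 2 → 1 ≤ ((Finset.range k).filter (fun i => (B + 1 + i) % 2 = 0 ∨ (B + 1 + i) % 3 = 0)).card := by
    rintro rfl
    refine Finset.card_pos.2 ⟨(B + 1) % 2, Finset.mem_filter.2 ⟨Finset.mem_range.2 (by omega), ?_⟩⟩
    omega
  generalize ((Finset.range k).filter (fun i => (B + 1 + i) % 2 = 0 ∨ (B + 1 + i) % 3 = 0)).card = c at hc hp hc2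
  have hB2 : 2 * k + 2 ≤ B := by
    have : (k + 1) * 2 ≤ (k + 1) * j := Nat.mul_le_mul_left _ hj2
    omega
  rcases Nat.lt_or_ge k 9 with hk9 | hk9
  · have : (2 * k + 2) ^ c ≤ k.factorial := le_trans (Nat.pow_le_pow_left hB2 c) hp
    interval_cases k
    all_goals
      first
      | (have : (2 * 2 + 2) ^ 1 ≤ Nat.factorial 2 := le_trans (Nat.pow_le_pow_right (by norm_num) (hc2 rfl)) this
         revert this; decide)
      | (have : (2 * 3 + 2) ^ 1 ≤ Nat.factorial 3 := le_trans (Nat.pow_le_pow_right (by norm_num) (by omega : 1 ≤ c)) this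
         revert this; decide)
      | (have : (2 * 4 + 2) ^ 2 ≤ Nat.factorial 4 := le_trans (Nat.pow_le_pow_right (by norm_num) (by omega : 2 ≤ c)) this
         revert this; decide)
      | (have : (2 * 5 + 2) ^ 2 ≤ Nat.factorial 5 := le_trans (Nat.pow_le_pow_right (by norm_num) (by omega : 2 ≤ c)) this
         revert this; decide)
      | (have : (2 * 6 + 2) ^ 3 ≤ Nat.factorial 6 := le_trans (Nat.pow_le_pow_right (by norm_num) (by omega : 3 ≤ c)) this
         revert this; decide)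
      | (have : (2 * 7 + 2) ^ 4 ≤ Nat.factorial 7 := le_trans (Nat.pow_le_pow_right (by norm_num) (by omega : 4 ≤ c)) this
         revert this; decide)
      | (have : (2 * 8 + 2) ^ 4 ≤ Nat.factorial 8 := le_trans (Nat.pow_le_pow_right (by norm_num) (by omega : 4 ≤ c)) this
         revert this; decide)
  · have hB3 : k ^ 3 ≤ 2 * B ^ 2 := by
      rw [hj]; nlinarith [Nat.mul_le_mul_left ((k + 1) ^ 2) hj3]
    have h1 : B ^ (2 * (k - 2)) ≤ k.factorial ^ 3 := by
      refine le_trans (Nat.pow_le_pow_right (by omega) (by omega : 2 * (k - 2) ≤ c * 3)) ?_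
      rw [pow_mul]; exact Nat.pow_le_pow_left hp 3
    have h2 : (k ^ 3) ^ (k - 2) ≤ 2 ^ (k - 2) * k.factorial ^ 3 := by
      refine le_trans (Nat.pow_le_pow_left hB3 _) ?_
      rw [mul_pow, ← pow_mul]; gcongr
    have h3 := Nat.pow_le_pow_left (factorial_le_half_pow (k := k) (by omega)) 3
    have h4 : (k ^ k) ^ 3 = (k ^ 3) ^ (k - 2) * k ^ 6 := by
      rw [← pow_mul, ← pow_mul, ← pow_add]; congr 1; omega
    have h6 := pow_six_lt hk9
    -- combine
    have h7 : 2 ^ (3 * k) * k.factorial ^ 3 ≤ (k ^ 3) ^ (k - 2) * k ^ 6 := by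
      rw [← h4, mul_comm 3 k, pow_mul, ← mul_pow]; exact h3
    have h8 : 2 ^ (3 * k) = 2 ^ (k - 2) * (4 ^ k * 4) := by
      rw [show (4 : ℕ) = 2 ^ 2 by norm_num, ← pow_mul, ← pow_add, ← pow_add]; congr 1; omega
    have hpos : 0 < 2 ^ (k - 2) * k.factorial ^ 3 := by positivity
    have : 2 ^ (3 * k) * k.factorial ^ 3 < 2 ^ (3 * k) * k.factorial ^ 3 :=
      calc 2 ^ (3 * k) * k.factorial ^ 3 ≤ (k ^ 3) ^ (k - 2) * k ^ 6 := h7
        _ ≤ 2 ^ (k - 2) * k.factorial ^ 3 * k ^ 6 := Nat.mul_le_mul_right _ h2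
        _ < 2 ^ (k - 2) * k.factorial ^ 3 * (4 ^ k * 4) := Nat.mul_lt_mul_of_pos_left h6 hpos
        _ = 2 ^ (3 * k) * k.factorial ^ 3 := by rw [h8]; ring
    exact lt_irrefl _ this

end Cfsg.Agent.AltHall
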