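/-
Hall subgroups of alternating groups: cycles in a Hall subgroup, and the cases `2 ∉ π` and `3 ∉ π`.
-/
import Mathlib
import Cfsg.Agent.Lib.FGStruct.JordanCycle

set_option autoImplicit false

namespace Cfsg.Agent.AltHall

open Equiv MulAction

variable {α : Type*} [Fintype α] [DecidableEq α] {π : Set ℕ} {M : Subgroup (Perm α)}

/-- `M` is a Hall `π`-subgroup of the alternating group, as a subgroup of the symmetric group. -/
structure HallA (π : Set ℕ) (M : Subgroup (Perm α)) : Prop where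
  le : M ≤ alternatingGroup α
  pi : ∀ p, p.Prime → p ∣ Nat.card M → p ∈ π
  idx : ∀ p, p.Prime → p ∈ π → ¬ p ∣ M.relIndex (alternatingGroup α)

namespace HallA

theorem eq_of_le (hM : HallA π M) {K : Subgroup (Perm α)} (hK : K ≤ alternatingGroup α)
    (hpi : ∀ p, p.Prime → p ∣ Nat.card K → p ∈ π) (hMK : M ≤ K) : K = M := by
  refine le_antisymm ?_ hMK
  rw [← Subgroup.relIndex_eq_one]
  by_contra h
  obtain ⟨p, hp, hpd⟩ := Nat.exists_prime_and_dvd h
  refine hM.idx p hp (hpi p hp (hpd.trans ?_)) (hpd.trans ⟨K.relIndex (alternatingGroup α), ?_⟩)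
  · exact Subgroup.index_dvd_card _
  · exact (Subgroup.relIndex_mul_relIndex M K _ hMK hK).symm

/-- `M` contains every subgroup of the alternating group that it normalises and is a `π`-group. -/
theorem le_of_normalised (hM : HallA π M) {N : Subgroup (Perm α)} (hN : N ≤ alternatingGroup α)
    (hpi : ∀ p, p.Prime → p ∣ Nat.card N → p ∈ π) (hnorm : ∀ g ∈ M, ∀ x ∈ N, g * x * g⁻¹ ∈ N) :
    N ≤ M := by
  let K := M ⊔ N
  have hle : M ≤ Subgroup.normalizer (N : Set (Perm α)) := fun g hg => by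
    rw [Subgroup.mem_normalizer_iff]
    refine fun x => ⟨hnorm g hg x, fun h => ?_⟩
    have := hnorm g⁻¹ (inv_mem hg) _ h
    simpa [mul_assoc] using this
  have e : N.relIndex M = N.relIndex K := by
    haveI : (N.subgroupOf K).Normal := (Subgroup.normal_subgroupOf_iff_le_normalizer le_sup_right).2
      (sup_le hle Subgroup.le_normalizer)
    have h := Subgroup.relIndex_sup_right (M.subgroupOf K) (N.subgroupOf K)
    rw [← Subgroup.subgroupOf_sup le_sup_left le_sup_right, Subgroup.relIndex_subgroupOf le_rfl,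
      Subgroup.relIndex_subgroupOf le_sup_left] at h
    exact h.symm
  have hc : Nat.card K = Nat.card N * N.relIndex M := by
    rw [e, Subgroup.relIndex, ← Subgroup.card_mul_index (N.subgroupOf K),
      Nat.card_congr (Subgroup.subgroupOfEquivOfLe (show N ≤ K from le_sup_right)).toEquiv]
  refine le_sup_right.trans (hM.eq_of_le (K := K) (sup_le hM.le hN) (fun p hp h => ?_) le_sup_left).le
  rcases hp.dvd_mul.1 (hc ▸ h) with h | h
  · exact hpi p hp h
  · exact hM.pi p hp (h.trans (Subgroup.index_dvd_card _))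

/-- A conjugate of every `r`-subgroup, `r ∈ π`, lies in `M`. -/
theorem exists_conj (hM : HallA π M) {r : ℕ} (hr : r.Prime) (hrπ : r ∈ π) {R : Subgroup (Perm α)}
    (hR : IsPGroup r R) (hRA : R ≤ alternatingGroup α) :
    ∃ g ∈ alternatingGroup α, ∀ x ∈ R, g * x * g⁻¹ ∈ M := by
  haveI : Fact r.Prime := ⟨hr⟩
  set A := alternatingGroup α
  set M' := M.subgroupOf A with hM'
  obtain ⟨P⟩ := (inferInstance : Nonempty (Sylow r M'))
  have hidx : ¬ r ∣ M'.index := hM.idx r hr hrπ
  let P' : Subgroup A := (P : Subgroup M').map M'.subtype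
  have hcard : Nat.card P' = r ^ (Nat.card A).factorization r := by
    rw [Subgroup.card_map_of_injective M'.subtype_injective, P.card_eq_multiplicity]
    congr 1
    conv_rhs => rw [← Subgroup.card_mul_index M', Nat.factorization_mul (by exact Nat.card_pos.ne')
      Subgroup.index_ne_zero_of_finite]
    simp [Nat.factorization_eq_zero_of_not_dvd hidx]
  obtain ⟨Q, hQ⟩ := (hR.comap_of_injective A.subtype A.subtype_injective).exists_le_sylow
  obtain ⟨g, hg⟩ := MulAction.exists_smul_eq A Q (Sylow.ofCard P' hcard)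
  refine ⟨g, g.2, fun x hx => ?_⟩
  have hx' : (⟨x, hRA hx⟩ : A) ∈ Q := hQ hx
  have h : g * ⟨x, hRA hx⟩ * g⁻¹ ∈ (g • Q : Sylow r A) := by
    show g * _ * g⁻¹ ∈ ((g • Q : Sylow r A) : Subgroup A)
    rw [Sylow.coe_subgroup_smul, Subgroup.mem_pointwise_smul_iff_inv_smul_mem]
    simp only [MulAut.smul_def, MulAut.inv_apply, MulAut.conj_symm_apply, mul_assoc, inv_mul_cancel_left, inv_mul_cancel, mul_one]
    exact hx'
  rw [hg] at h
  change g * ⟨x, hRA hx⟩ * g⁻¹ ∈ ((Sylow.ofCard P' hcard : Sylow r A) : Subgroup A) at h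
  rw [Sylow.coe_ofCard] at h
  obtain ⟨y, _, hy⟩ := Subgroup.mem_map.1 h
  have := y.2
  rw [Subgroup.coe_subtype] at hy
  rw [hy] at this
  simpa [hM', Subgroup.mem_subgroupOf] using this

end HallA

/-- `k` commuting translations. -/
def blockHom (k : ℕ) (γ : Type*) [Group γ] : (Fin k → γ) →* Perm (Fin k × γ) where
  toFun f := ⟨fun x => (x.1, f x.1 * x.2), fun x => (x.1, (f x.1)⁻¹ * x.2),
    fun x => by simp, fun x => by simp⟩
  map_one' := by ext x <;> simp
  map_mul' f f' := by ext x <;> simp [mul_assoc]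

/-- Blocks on which `M` induces the regular action of a small `r`-group. -/
theorem HallA.exists_blocks (hM : HallA π M) {r : ℕ} (hr : r.Prime) (hrπ : r ∈ π) {γ : Type*} [Group γ]
    [Fintype γ] [DecidableEq γ] (hγ : IsPGroup r γ) (hev : ∀ v : γ, Perm.sign (Equiv.mulLeft v) = 1)
    {k : ℕ} (hk : k * Fintype.card γ ≤ Fintype.card α) :
    ∃ e : Fin k × γ ↪ α, ∀ i v, ∃ x ∈ M,
      (∀ t, x (e (i, t)) = e (i, v * t)) ∧ ∀ y, (∀ t, e (i, t) ≠ y) → x y = y := by
  classical
  obtain ⟨e⟩ : Nonempty (Fin k × γ ↪ α) := Function.Embedding.nonempty_of_card_le (by simpa using hk)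
  let φ : (Fin k → γ) →* Perm α := (Perm.viaEmbeddingHom e).comp (blockHom k γ)
  have hφ : ∀ f i t, φ f (e (i, t)) = e (i, f i * t) := fun f i t => by
    show (blockHom k γ f).viaEmbedding e (e (i, t)) = _
    rw [Perm.viaEmbedding_apply]; rfl
  have hφ' : ∀ f y, (∀ p, e p ≠ y) → φ f y = y := fun f y h => by
    simp only [φ, MonoidHom.coe_comp, Function.comp_apply]
    exact Perm.viaEmbedding_apply_of_notMem _ _ _ (by rintro ⟨p, hp⟩; exact h p hp)
  have hpk : IsPGroup r (Fin k → γ) := by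
    haveI : Fact r.Prime := ⟨hr⟩
    obtain ⟨n, hn⟩ := IsPGroup.iff_card.1 hγ
    exact IsPGroup.of_card (n := n * k) (by simp [Nat.card_eq_fintype_card, pow_mul, ← hn])
  have hRr : IsPGroup r φ.range := hpk.of_surjective φ.rangeRestrict φ.rangeRestrict_surjective
  obtain ⟨g, -, hg⟩ := hM.exists_conj hr hrπ (R := φ.range ⊓ alternatingGroup α)
    (hRr.to_le inf_le_left) inf_le_right
  refine ⟨e.trans g.toEmbedding, fun i v => ?_⟩
  let b : γ ↪ α := ⟨fun t => e (i, t), fun s t h => by simpa using e.injective h⟩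
  have hσ : φ (Pi.mulSingle i v) = Perm.viaEmbedding (Equiv.mulLeft v) b := by
    refine Equiv.ext fun y => ?_
    by_cases hy : ∃ p, e p = y
    · obtain ⟨⟨j, t⟩, rfl⟩ := hy
      rw [hφ]
      rcases eq_or_ne j i with rfl | hji
      · rw [Pi.mulSingle_eq_same, show e (j, t) = b t from rfl, Perm.viaEmbedding_apply]; rfl
      · rw [Pi.mulSingle_eq_of_ne hji, one_mul, Perm.viaEmbedding_apply_of_notMem]
        rintro ⟨s, hs⟩
        exact hji (by simpa using (e.injective hs).symm.trans rfl |> congrArg Prod.fst)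
    · push Not at hy
      rw [hφ' _ _ hy, Perm.viaEmbedding_apply_of_notMem]
      rintro ⟨s, hs⟩
      exact hy (i, s) hs
  have hA : φ (Pi.mulSingle i v) ∈ alternatingGroup α := by
    rw [Perm.mem_alternatingGroup, hσ]
    unfold Perm.viaEmbedding
    simp [Perm.sign_extendDomain, hev]
  refine ⟨g * φ (Pi.mulSingle i v) * g⁻¹, hg _ ⟨⟨_, rfl⟩, hA⟩, fun t => ?_, fun y hy => ?_⟩
  · simp [hφ]
  · have h : ∀ t, e (i, t) ≠ g⁻¹ y := fun t ht => hy t (by simp [ht])
    rw [Perm.mul_apply, Perm.mul_apply, hσ, Perm.viaEmbedding_apply_of_notMem]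
    · simp
    · rintro ⟨t, ht⟩; exact h t ht

/-- An element with a three point orbit has order divisible by 3. -/
lemma three_dvd {G : Subgroup (Perm α)} {f : Perm α} (hf : f ∈ G) {a : α} (h1 : f a ≠ a)
    (h3 : f (f (f a)) = a) : 3 ∣ Nat.card G := by
  haveI : Fact (Nat.Prime 3) := ⟨Nat.prime_three⟩
  have hp : Function.minimalPeriod (⇑f) a = 3 := Function.minimalPeriod_eq_prime h3 h1
  have : Function.IsPeriodicPt (⇑f) (orderOf f) a := by
    rw [Function.IsPeriodicPt, Function.IsFixedPt, ← Perm.coe_pow, pow_orderOf_eq_one]; rfl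
  have h := this.minimalPeriod_dvd
  rw [hp] at h
  exact h.trans (by rw [← Subgroup.orderOf_mk f hf]; exact orderOf_dvd_natCard _)

/-- The finset of a block. -/
def blk {k : ℕ} {γ : Type*} [Fintype γ] (e : Fin k × γ ↪ α) (i : Fin k) : Finset α :=
  Finset.univ.map ⟨fun t => e (i, t), fun _ _ h => by simpa using e.injective h⟩

lemma mem_blk {k : ℕ} {γ : Type*} [Fintype γ] {e : Fin k × γ ↪ α} {i : Fin k} {y : α} :
    y ∈ blk e i ↔ ∃ t, e (i, t) = y := by simp [blk]; rfl

lemma card_blk {k : ℕ} {γ : Type*} [Fintype γ] (e : Fin k × γ ↪ α) (i : Fin k) :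
    (blk e i).card = Fintype.card γ := by simp [blk]

lemma card_compl_blks {k : ℕ} {γ : Type*} [Fintype γ] (e : Fin k × γ ↪ α) :
    (Finset.univ.filter fun y => ∀ p, e p ≠ y).card + k * Fintype.card γ = Fintype.card α := by
  classical
  have : (Finset.univ.filter fun y => ∀ p, e p ≠ y) = (Finset.univ.map e)ᶜ := by ext; simp
  rw [this, Finset.card_compl, Finset.card_map, Finset.card_univ, Fintype.card_prod, Fintype.card_fin]
  have := Fintype.card_le_of_embedding e
  simp at this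
  omega

/-- A set `X` of at least two points which is a block for `M` contains each prime block meeting it. -/
theorem block_sub {p : ℕ} (hp : p.Prime) {γ : Type*} [Group γ] [Fintype γ] (hγ : Fintype.card γ = p)
    {k : ℕ} {e : Fin k × γ ↪ α} {i : Fin k}
    (he : ∀ v, ∃ x ∈ M, (∀ t, x (e (i, t)) = e (i, v * t)) ∧ ∀ y, (∀ t, e (i, t) ≠ y) → x y = y)
    {X : Finset α} (hX : ∀ g ∈ M, ∀ x ∈ X, g x ∈ X → ∀ z ∈ X, g z ∈ X) (h2 : 2 ≤ X.card)
    {t : γ} (hmeet : e (i, t) ∈ X) : blk e i ⊆ X := by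
  classical
  choose c hc hc1 hc2 using he
  have hone : c 1 = 1 := by
    refine Equiv.ext fun y => ?_
    by_cases hy : ∃ t, e (i, t) = y
    · obtain ⟨t, rfl⟩ := hy; simp [hc1]
    · push Not at hy; simp [hc2 1 y hy]
  have hmap : ∀ v w, c (v * w) = c v * c w := by
    intro v w
    refine Equiv.ext fun y => ?_
    by_cases hy : ∃ t, e (i, t) = y
    · obtain ⟨t, rfl⟩ := hy; simp [hc1, mul_assoc]
    · push Not at hy; simp [hc2 _ y hy]
  obtain ⟨v, hv, hvX⟩ : ∃ v, v ≠ 1 ∧ ∀ z ∈ X, c v z ∈ X := by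
    obtain ⟨w, hw⟩ : ∃ w : γ, w ≠ 1 :=
      Fintype.exists_ne_of_one_lt_card (by rw [hγ]; exact hp.one_lt) 1
    by_cases hsub : ∀ x ∈ X, ∃ s, e (i, s) = x
    · obtain ⟨x, hx, y, hy, hxy⟩ := Finset.one_lt_card.1 h2
      obtain ⟨s, rfl⟩ := hsub x hx
      obtain ⟨s', rfl⟩ := hsub y hy
      refine ⟨s' * s⁻¹, fun h => hxy ?_, hX _ (hc _) _ hx (by simpa [hc1] using hy)⟩
      rw [mul_inv_eq_one] at h; rw [h]
    · push Not at hsub
      obtain ⟨x, hx, hxs⟩ := hsub
      exact ⟨w, hw, hX _ (hc w) x hx (by rw [hc2 w x hxs]; exact hx)⟩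
  have hall : ∀ u : γ, ∀ z ∈ X, c u z ∈ X := by
    intro u
    obtain ⟨m, rfl⟩ : ∃ m : ℕ, v ^ m = u := by
      have hcard : Nat.card γ = p := by rw [Nat.card_eq_fintype_card, hγ]
      haveI := Fact.mk hp
      exact Submonoid.mem_powers_iff _ _ |>.1 (mem_powers_of_prime_card hcard hv)
    induction m with
    | zero => intro z hz; simpa [hone] using hz
    | succ m ih => intro z hz; rw [pow_succ, hmap, Perm.mul_apply]; exact ih _ (hvX z hz)
  intro y hy
  obtain ⟨s, rfl⟩ := mem_blk.1 hy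
  simpa [hc1] using hall (s * t⁻¹) _ hmeet

/-- The case `2 ∈ π`, `3 ∉ π`. -/
theorem no_three (hM : HallA π M) (h2 : 2 ∈ π) (h3 : 3 ∉ π) {p : ℕ} (hp : p.Prime) (hp5 : 5 ≤ p)
    (hpπ : p ∈ π) (hpn : p ≤ Fintype.card α) : False := by
  classical
  have h3M : ¬ 3 ∣ Nat.card M := fun h => h3 (hM.pi 3 Nat.prime_three h)
  haveI : Fact p.Prime := ⟨hp⟩
  have hV : IsPGroup 2 (Multiplicative (ZMod 2 × ZMod 2)) :=
    IsPGroup.of_card (n := 2) (by simp [Nat.card_eq_fintype_card])
  obtain ⟨e, he⟩ := hM.exists_blocks Nat.prime_two h2 hV (by decide) (k := Fintype.card α / 4)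
    (by simpa using Nat.div_mul_le_self _ 4)
  have hC : IsPGroup p (Multiplicative (ZMod p)) := IsPGroup.of_card (n := 1) (by simp)
  obtain ⟨d, hd⟩ := hM.exists_blocks hp hpπ hC (fun v => by
      have h1 : Perm.sign (Equiv.mulLeft v) ^ p = 1 := by
        rw [show Equiv.mulLeft v = MulAction.toPermHom _ (Multiplicative (ZMod p)) v from Equiv.ext fun _ => rfl,
          ← map_pow, ← map_pow, show v ^ p = 1 by simpa using pow_card_eq_one (x := v), map_one, map_one]
      rcases Int.units_eq_one_or (Perm.sign (Equiv.mulLeft v)) with hs | hs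
      · exact hs
      · rw [hs, (hp.odd_of_ne_two (by omega)).neg_one_pow] at h1; exact absurd h1 (by decide))
    (k := 1) (by simpa using hpn)
  -- quads form a system of imprimitivity
  let Quad : Finset α → Prop := fun X => X.card = 4 ∧ ∀ a ∈ X, ∀ u ∈ X,
    ∃ x ∈ M, x a = u ∧ x u = a ∧ ∀ y ∉ X, x y = y
  have hq : ∀ i, Quad (blk e i) := by
    refine fun i => ⟨by simp [card_blk], fun a ha u hu => ?_⟩
    obtain ⟨s, rfl⟩ := mem_blk.1 ha
    obtain ⟨t, rfl⟩ := mem_blk.1 hu
    obtain ⟨x, hx, hx1, hx2⟩ := he i (t * s⁻¹)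
    refine ⟨x, hx, by simp [hx1], ?_, fun y hy => hx2 y fun r hr => hy (mem_blk.2 ⟨r, hr⟩)⟩
    rw [hx1]
    congr 2
    have key : ∀ a b : Multiplicative (ZMod 2 × ZMod 2), b * a⁻¹ * b = a := by decide
    exact key s t
  have hdisj : ∀ X Y, Quad X → Quad Y → ∀ a ∈ X, a ∈ Y → X = Y := by
    intro X Y hX hY a haX haY
    by_contra hne
    obtain ⟨u, huX, huY⟩ : ∃ u ∈ X, u ∉ Y := by
      by_contra h; push Not at h
      exact hne (Finset.eq_of_subset_of_card_le h (by rw [hX.1, hY.1]))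
    obtain ⟨w, hwY, hwX⟩ : ∃ w ∈ Y, w ∉ X := by
      by_contra h; push Not at h
      exact hne (Finset.eq_of_subset_of_card_le h (by rw [hX.1, hY.1])).symm
    obtain ⟨x, hx, hxa, hxu, hxf⟩ := hX.2 a haX u huX
    obtain ⟨y, hy, hya, hyw, hyf⟩ := hY.2 a haY w hwY
    apply h3M
    refine three_dvd (mul_mem hx hy) (a := a) ?_ ?_
    · rw [Perm.mul_apply, hya, hxf w hwX]
      rintro rfl; exact hwX haX
    · simp [hya, hxf w hwX, hyw, hxa, hyf u huY, hxu]
  have himg : ∀ g ∈ M, ∀ X, Quad X → Quad (X.image g) := by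
    refine fun g hg X hX => ⟨by rw [Finset.card_image_of_injective _ g.injective, hX.1], ?_⟩
    simp only [Finset.forall_mem_image]
    intro a ha u hu
    obtain ⟨x, hx, h1, h2, hf⟩ := hX.2 a ha u hu
    refine ⟨g * x * g⁻¹, mul_mem (mul_mem hg hx) (inv_mem hg), by simp [h1], by simp [h2], fun y hy => ?_⟩
    have : g⁻¹ y ∉ X := fun h => hy (Finset.mem_image.2 ⟨_, h, by simp⟩)
    rw [Perm.mul_apply, Perm.mul_apply, hf _ this]
    simp
  have havoid : ∀ i t, ∀ q, e q ≠ d (i, t) := by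
    rintro i t ⟨j, s⟩ h
    have hsub := block_sub hp (by simp) (fun v => hd i v) (X := blk e j) (fun g hg x hx hgx z hz => by
        have := hdisj _ _ (himg g hg _ (hq j)) (hq j) (g x) (Finset.mem_image_of_mem _ hx) hgx
        rw [← this]; exact Finset.mem_image_of_mem _ hz)
      (by simp [card_blk]) (t := t) (mem_blk.2 ⟨s, h⟩)
    have := Finset.card_le_card hsub
    simp [card_blk] at this
    omega
  have hsub : blk d 0 ⊆ Finset.univ.filter fun y => ∀ q, e q ≠ y := by
    intro y hy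
    obtain ⟨t, rfl⟩ := mem_blk.1 hy
    exact Finset.mem_filter.2 ⟨Finset.mem_univ _, havoid 0 t⟩
  have h1 := Finset.card_le_card hsub
  have h2' := card_compl_blks e
  simp [card_blk] at h1 h2'
  omega

end Cfsg.Agent.AltHall
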