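/-
Hall subgroups of alternating groups: the case `2 ∉ π`.
-/
import Cfsg.Agent.Lib.AltHall.Basic

set_option autoImplicit false

namespace Cfsg.Agent.AltHall

open Equiv MulAction
open scoped Pointwise

variable {α : Type*} [Fintype α] [DecidableEq α] {π : Set ℕ} {M : Subgroup (Perm α)}

lemma even_of_swap {G : Subgroup (Perm α)} {g : Perm α} (hg : g ∈ G) {a b : α} (hab : a ≠ b)
    (h1 : g a = b) (h2 : g b = a) : 2 ∣ Nat.card G := by
  haveI : Fact (Nat.Prime 2) := ⟨Nat.prime_two⟩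
  have hp : Function.minimalPeriod (⇑g) a = 2 :=
    Function.minimalPeriod_eq_prime (by show g (g a) = a; rw [h1, h2]) (by show g a ≠ a; rw [h1]; exact hab.symm)
  have : Function.IsPeriodicPt (⇑g) (orderOf g) a := by
    rw [Function.IsPeriodicPt, Function.IsFixedPt, ← Perm.coe_pow, pow_orderOf_eq_one]; rfl
  have h := this.minimalPeriod_dvd
  rw [hp] at h
  exact h.trans (by rw [← Subgroup.orderOf_mk g hg]; exact orderOf_dvd_natCard _)

lemma sign_mulLeft_zmod {p : ℕ} [Fact p.Prime] (hp : p ≠ 2) (v : Multiplicative (ZMod p)) :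
    Perm.sign (Equiv.mulLeft v) = 1 := by
  have h1 : Perm.sign (Equiv.mulLeft v) ^ p = 1 := by
    rw [show Equiv.mulLeft v = MulAction.toPermHom _ (Multiplicative (ZMod p)) v from Equiv.ext fun _ => rfl,
      ← map_pow, ← map_pow, show v ^ p = 1 by simpa using pow_card_eq_one (x := v), map_one, map_one]
  rcases Int.units_eq_one_or (Perm.sign (Equiv.mulLeft v)) with hs | hs
  · exact hs
  · rw [hs, ((Fact.out : p.Prime).odd_of_ne_two hp).neg_one_pow] at h1
    exact absurd h1 (by decide)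

/-- Blocks of `p` points carrying `p`-cycles of `M`, covering all but fewer than `p` points. -/
theorem HallA.exists_cycles (hM : HallA π M) {p : ℕ} [Fact p.Prime] (hpπ : p ∈ π) (hp : p ≠ 2) :
    ∃ e : Fin (Fintype.card α / p) × Multiplicative (ZMod p) ↪ α, ∀ i v, ∃ x ∈ M,
      (∀ t, x (e (i, t)) = e (i, v * t)) ∧ ∀ y, (∀ t, e (i, t) ≠ y) → x y = y :=
  hM.exists_blocks Fact.out hpπ (IsPGroup.of_card (n := 1) (by simp)) (sign_mulLeft_zmod hp)
    (by simpa using Nat.div_mul_le_self _ p)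

/-- A group of odd order has no `p`-cycle and `q`-cycle with meeting supports. -/
theorem odd_two_cycles {U : Type*} [Fintype U] [DecidableEq U] {K : Subgroup (Perm U)}
    (hodd : ¬ 2 ∣ Nat.card K) {p q : ℕ} (hp : p.Prime) (hq : q.Prime) (hp3 : 3 ≤ p) (hpq : p + 2 ≤ q)
    (d : Fin 1 × Multiplicative (ZMod p) ↪ U) (e : Fin 1 × Multiplicative (ZMod q) ↪ U)
    (hd : ∀ v, ∃ x ∈ K, (∀ t, x (d (0, t)) = d (0, v * t)) ∧ ∀ y, (∀ t, d (0, t) ≠ y) → x y = y)
    (he : ∀ v, ∃ x ∈ K, (∀ t, x (e (0, t)) = e (0, v * t)) ∧ ∀ y, (∀ t, e (0, t) ≠ y) → x y = y)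
    (hcov : ∀ u, (∃ t, d (0, t) = u) ∨ ∃ t, e (0, t) = u)
    (hmeet : ∃ s t, d (0, s) = e (0, t)) : False := by
  classical
  haveI := Fact.mk hp
  haveI := Fact.mk hq
  obtain ⟨s0, t0, h0⟩ := hmeet
  set a := e (0, t0)
  have hreach : ∀ u, ∃ g ∈ K, g a = u := by
    intro u
    rcases hcov u with ⟨t, rfl⟩ | ⟨t, rfl⟩
    · obtain ⟨x, hx, h1, -⟩ := hd (t * s0⁻¹)
      exact ⟨x, hx, by rw [← h0, h1]; simp⟩
    · obtain ⟨x, hx, h1, -⟩ := he (t * t0⁻¹)
      exact ⟨x, hx, by simp [a, h1]⟩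
  have hreach2 : ∀ u w, ∃ g ∈ K, g u = w := fun u w => by
    obtain ⟨g, hg, rfl⟩ := hreach u
    obtain ⟨h, hh, rfl⟩ := hreach w
    exact ⟨h * g⁻¹, mul_mem hh (inv_mem hg), by simp⟩
  haveI hpt : IsPretransitive K U := ⟨fun u w => by
    obtain ⟨g, hg, h⟩ := hreach2 u w; exact ⟨⟨g, hg⟩, h⟩⟩
  have hlt : Fintype.card U < 2 * q := by
    have hsub : (Finset.univ : Finset U) ⊆ blk d 0 ∪ blk e 0 := fun u _ => by
      simpa [mem_blk] using hcov u
    have h1 : a ∈ blk d 0 ∩ blk e 0 := Finset.mem_inter.2 ⟨mem_blk.2 ⟨s0, h0⟩, mem_blk.2 ⟨t0, rfl⟩⟩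
    have h2 := Finset.card_le_card hsub
    have h3 := Finset.card_union_add_card_inter (blk d 0) (blk e 0)
    have h4 := Finset.card_pos.2 ⟨a, h1⟩
    simp [card_blk] at h2 h3
    omega
  have hprim : IsPreprimitive K U := by
    constructor
    intro B hB
    rcases B.subsingleton_or_nontrivial with hs | hs
    · exact Or.inl hs
    refine Or.inr ?_
    obtain ⟨b, hb⟩ := hs.nonempty
    obtain ⟨⟨g, hg⟩, hgb⟩ := hpt.exists_smul_eq b a
    let C : Finset U := (Set.toFinite B).toFinset.image g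
    have hC : ∀ h ∈ K, ∀ x ∈ C, h x ∈ C → ∀ z ∈ C, h z ∈ C := by
      intro h hh x hx hhx z hz
      simp only [C, Finset.mem_image, Set.Finite.mem_toFinset] at hx hhx hz ⊢
      obtain ⟨x, hx, rfl⟩ := hx
      obtain ⟨x', hx', he'⟩ := hhx
      obtain ⟨z, hz, rfl⟩ := hz
      let k : K := ⟨g⁻¹ * h * g, mul_mem (mul_mem (inv_mem hg) hh) hg⟩
      have hk : k • B = B := by
        refine hB.smul_eq_of_mem hx ?_
        show g⁻¹ (h (g x)) ∈ B
        rw [← he']; simpa using hx'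
      refine ⟨g⁻¹ (h (g z)), ?_, by simp⟩
      rw [← hk]
      exact ⟨z, hz, rfl⟩
    have hcardC : C.card = B.ncard := by
      rw [Finset.card_image_of_injective _ g.injective, Set.ncard_eq_toFinset_card]
    have h2 : 2 ≤ C.card := by rw [hcardC]; exact Set.one_lt_ncard_iff_nontrivial.2 hs
    have hsub := block_sub hq (by simp) he hC h2 (t := t0) (Finset.mem_image.2 ⟨b, by simpa using hb, hgb⟩)
    have hq' := Finset.card_le_card hsub
    simp [card_blk, hcardC] at hq'
    by_contra hne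
    obtain ⟨w, hw⟩ : ∃ w, w ∉ B := by
      by_contra h; push Not at h; exact hne (Set.eq_univ_of_forall h)
    obtain ⟨⟨k, hk⟩, hkw⟩ := hpt.exists_smul_eq b w
    rcases (MulAction.isBlock_iff_smul_eq_or_disjoint).1 hB ⟨k, hk⟩ with h | h
    · exact hw (h ▸ ⟨b, hb, hkw⟩)
    · have := Set.ncard_union_eq h (Set.toFinite _) (Set.toFinite _)
      have h1 : ((⟨k, hk⟩ : K) • B ∪ B).ncard ≤ Fintype.card U := by
        rw [← Nat.card_eq_fintype_card, ← Set.ncard_univ]; exact Set.ncard_le_ncard (Set.subset_univ _)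
      rw [this, Set.ncard_smul_set] at h1
      omega
  by_cases hsize : p + 3 ≤ Fintype.card U
  · obtain ⟨v, hv⟩ := Fintype.exists_ne_of_one_lt_card (α := Multiplicative (ZMod p)) (by simpa using hp.one_lt) 1
    obtain ⟨c, hc, hc1, hc2⟩ := hd v
    have hsupp : c.support = blk d 0 := by
      ext y
      rw [Perm.mem_support, mem_blk]
      constructor
      · intro h; by_contra hn; push Not at hn; exact h (hc2 y hn)
      · rintro ⟨t, rfl⟩ h
        rw [hc1] at h
        exact hv (mul_right_cancel (b := t) (by simpa using (congrArg Prod.snd (d.injective h))))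
    have hcp : c ^ p = 1 := by
      refine Equiv.ext fun y => ?_
      by_cases hy : ∃ t, d (0, t) = y
      · obtain ⟨t, rfl⟩ := hy
        have : ∀ m : ℕ, (c ^ m) (d (0, t)) = d (0, v ^ m * t) := by
          intro m
          induction m with
          | zero => simp
          | succ m ih => rw [pow_succ', Perm.mul_apply, ih, hc1, ← mul_assoc, ← pow_succ']
        rw [this, show v ^ p = 1 by simpa using pow_card_eq_one (x := v)]; simp
      · push Not at hy
        exact Perm.pow_apply_eq_self_of_apply_eq_self (hc2 y hy) p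
    have hsc : c.support.card = p := by rw [hsupp]; simp [card_blk]
    have hord : orderOf c = p := orderOf_eq_prime hcp (by rintro rfl; simp at hsc; omega)
    have hcyc : c.IsCycle := Perm.isCycle_of_prime_order (hord ▸ hp) (by rw [hsc, hord]; omega)
    have hA := JordanCycle.alternatingGroup_le_of_prime_cycle hprim hp hsize hcyc hsc hc
    haveI : Nontrivial U := Fintype.one_lt_card_iff_nontrivial.1 (by omega)
    refine hodd (dvd_trans ?_ (Subgroup.card_dvd_of_le hA))
    have h4 : 4 ∣ (Fintype.card U).factorial := (by decide : 4 ∣ Nat.factorial 4).trans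
      (Nat.factorial_dvd_factorial (by omega))
    rw [nat_card_alternatingGroup, Nat.card_eq_fintype_card]
    omega
  · have hS : (blk d 0).card = p := by simp [card_blk]
    have hT : (blk e 0).card = q := by simp [card_blk]
    have hle := Finset.card_le_univ (blk e 0)
    have hU : Fintype.card U = p + 2 := by omega
    obtain ⟨x, y, hxy, hcompl⟩ := Finset.card_eq_two.1 (show (blk d 0)ᶜ.card = 2 by
      rw [Finset.card_compl, hS]; omega)
    have hout : ∀ z, z ∈ blk d 0 ↔ z ≠ x ∧ z ≠ y := fun z => by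
      have := Finset.ext_iff.1 hcompl z
      simp at this; tauto
    have hfix : ∀ c : Perm U, (∀ z, (∀ t, d (0, t) ≠ z) → c z = z) → c x = x ∧ c y = y := by
      intro c h
      refine ⟨h x fun t ht => ?_, h y fun t ht => ?_⟩
      · exact ((hout x).1 (mem_blk.2 ⟨t, ht⟩)).1 rfl
      · exact ((hout y).1 (mem_blk.2 ⟨t, ht⟩)).2 rfl
    apply hodd
    by_cases hcase : ∃ g ∈ K, g x = x ∧ g y ≠ y
    · obtain ⟨g, hg, hgx, hgy⟩ := hcase
      have htr : ∀ w, w ≠ x → ∃ h ∈ K, h x = x ∧ h y = w := by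
        intro w hw
        by_cases hwy : w = y
        · exact ⟨1, one_mem _, rfl, hwy.symm⟩
        obtain ⟨s, hs⟩ := mem_blk.1 ((hout w).2 ⟨hw, hwy⟩)
        obtain ⟨r, hr⟩ := mem_blk.1 ((hout (g y)).2 ⟨fun h => hxy (g.injective (by rw [h, hgx])).symm, hgy⟩)
        obtain ⟨c, hc, hc1, hc2⟩ := hd (s * r⁻¹)
        exact ⟨c * g, mul_mem hc hg, by simp [hgx, (hfix c hc2).1], by simp [← hr, ← hs, hc1]⟩
      obtain ⟨g0, hg0, hg0y⟩ := hreach2 y x
      obtain ⟨h, hh, hhx, hhy⟩ := htr (g0 x) (fun h => hxy (g0.injective (by rw [h, hg0y])))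
      refine even_of_swap (mul_mem (inv_mem hh) hg0) hxy ?_ ?_
      · rw [Perm.mul_apply, ← hhy]; simp
      · rw [Perm.mul_apply, hg0y]; nth_rewrite 1 [← hhx]; simp
    · push Not at hcase
      obtain ⟨g0, hg0, hg0x⟩ := hreach2 x y
      have h1 : g0 y ≠ y := fun h => hxy (g0.injective (by rw [hg0x, h]))
      by_cases h2 : g0 y = x
      · exact even_of_swap hg0 hxy hg0x h2
      exfalso
      obtain ⟨t, ht⟩ := mem_blk.1 ((hout (g0 y)).2 ⟨h2, h1⟩)
      obtain ⟨v, hv⟩ := Fintype.exists_ne_of_one_lt_card (α := Multiplicative (ZMod p)) (by simpa using hp.one_lt) 1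
      obtain ⟨c, hc, hc1, hc2⟩ := hd v
      have h3 := hcase (g0⁻¹ * c * g0) (mul_mem (mul_mem (inv_mem hg0) hc) hg0) (by
        simp [hg0x, (hfix c hc2).2, Equiv.symm_apply_eq])
      have h4 : c (g0 y) = g0 y := by
        simpa [Equiv.symm_apply_eq] using h3
      rw [← ht, hc1] at h4
      exact hv (mul_right_cancel (b := t) (by simpa using (congrArg Prod.snd (d.injective h4))))

/-- The case `2 ∉ π`. -/
theorem no_two (hM : HallA π M) (h2 : 2 ∉ π) {p q : ℕ} (hp : p.Prime) (hq : q.Prime) (hpπ : p ∈ π)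
    (hqπ : q ∈ π) (hpq : p < q) (hqn : q ≤ Fintype.card α) : False := by
  classical
  have hp2 : p ≠ 2 := fun h => h2 (h ▸ hpπ)
  have hq2 : q ≠ 2 := fun h => h2 (h ▸ hqπ)
  haveI := Fact.mk hp
  haveI := Fact.mk hq
  have hoddM : ¬ 2 ∣ Nat.card M := fun h => h2 (hM.pi 2 Nat.prime_two h)
  obtain ⟨d, hd⟩ := hM.exists_cycles hpπ hp2
  obtain ⟨e, he⟩ := hM.exists_cycles hqπ hq2
  have h0 : 0 < Fintype.card α / q := Nat.div_pos hqn hq.pos
  let j : Fin (Fintype.card α / q) := ⟨0, h0⟩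
  obtain ⟨t, i, s, hst⟩ : ∃ t i s, d (i, s) = e (j, t) := by
    by_contra hn
    push Not at hn
    have hsub : blk e j ⊆ Finset.univ.filter fun y => ∀ r, d r ≠ y := by
      intro y hy
      obtain ⟨t, rfl⟩ := mem_blk.1 hy
      simpa using fun i s => hn t i s
    have h1 := Finset.card_le_card hsub
    have h2' := card_compl_blks d
    have h3 := Nat.mod_lt (Fintype.card α) hp.pos
    have h4 := Nat.div_add_mod' (Fintype.card α) p
    simp [card_blk] at h1 h2'
    omega
  let U := {y : α // y ∈ blk d i ∪ blk e j}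
  let K : Subgroup (Perm U) := M.comap Perm.ofSubtype
  have hK : ¬ 2 ∣ Nat.card K := fun h => hoddM
    (h.trans (Subgroup.card_comap_dvd_of_injective M _ Perm.ofSubtype_injective))
  have hres : ∀ {γ : Type} [Group γ] [Fintype γ] (f : Fin 1 × γ ↪ U) (v : γ) (x : Perm α), x ∈ M →
      (∀ t, x (f (0, t)).1 = (f (0, v * t)).1) → (∀ y, (∀ t, (f (0, t)).1 ≠ y) → x y = y) →
      ∃ x' ∈ K, (∀ t, x' (f (0, t)) = f (0, v * t)) ∧ ∀ y, (∀ t, f (0, t) ≠ y) → x' y = y := by
    intro γ _ _ f v x hx h1 h2'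
    have hU : ∀ y, y ∈ blk d i ∪ blk e j → x y ∈ blk d i ∪ blk e j := by
      intro y hy
      by_cases h : ∃ t, (f (0, t)).1 = y
      · obtain ⟨t, rfl⟩ := h; rw [h1]; exact (f (0, v * t)).2
      · push Not at h; rwa [h2' y h]
    have hiff : ∀ y, x y ∈ blk d i ∪ blk e j ↔ y ∈ blk d i ∪ blk e j := by
      refine fun y => ⟨fun h => ?_, hU y⟩
      by_contra hy
      rw [h2' y fun t ht => hy (ht ▸ (f (0, t)).2)] at h
      exact hy h
    refine ⟨x.subtypePerm hiff, ?_, fun t => Subtype.ext (h1 t),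
      fun y hy => Subtype.ext (h2' y fun t ht => hy t (Subtype.ext ht))⟩
    show Perm.ofSubtype (x.subtypePerm hiff) ∈ M
    rw [Perm.ofSubtype_subtypePerm]
    · exact hx
    · intro y hy
      by_contra hn
      exact hy (h2' y fun t ht => hn (ht ▸ (f (0, t)).2))
  let d' : Fin 1 × Multiplicative (ZMod p) ↪ U :=
    ⟨fun r => ⟨d (i, r.2), Finset.mem_union_left _ (mem_blk.2 ⟨_, rfl⟩)⟩, fun a b h => Prod.ext (Subsingleton.elim _ _)
      (by simpa using congrArg Prod.snd (d.injective (congrArg Subtype.val h)))⟩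
  let e' : Fin 1 × Multiplicative (ZMod q) ↪ U :=
    ⟨fun r => ⟨e (j, r.2), Finset.mem_union_right _ (mem_blk.2 ⟨_, rfl⟩)⟩, fun a b h => Prod.ext (Subsingleton.elim _ _)
      (by simpa using congrArg Prod.snd (e.injective (congrArg Subtype.val h)))⟩
  have hpq2 : p + 2 ≤ q := by
    have := hp.odd_of_ne_two hp2
    have := hq.odd_of_ne_two hq2
    rw [Nat.odd_iff] at *
    omega
  refine odd_two_cycles hK hp hq (by have := hp.two_le; omega) hpq2 d' e' (fun v => ?_) (fun v => ?_) ?_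
    ⟨s, t, Subtype.ext hst⟩
  · obtain ⟨x, hx, h1, h2'⟩ := hd i v; exact hres d' v x hx h1 h2'
  · obtain ⟨x, hx, h1, h2'⟩ := he j v; exact hres e' v x hx h1 h2'
  · rintro ⟨u, hu⟩
    rcases Finset.mem_union.1 hu with h | h
    · obtain ⟨r, rfl⟩ := mem_blk.1 h; exact Or.inl ⟨r, rfl⟩
    · obtain ⟨r, rfl⟩ := mem_blk.1 h; exact Or.inr ⟨r, rfl⟩

end Cfsg.Agent.AltHall
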