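/-
Hall subgroups of alternating groups with `2, 3 ∈ π`: the classes spanned by their 3-cycles.
-/
import Cfsg.Agent.Lib.AltHall.NoTwo

set_option autoImplicit false

namespace Cfsg.Agent.AltHall

open Equiv MulAction

variable {α : Type*} [Fintype α] [DecidableEq α] {π : Set ℕ} {M : Subgroup (Perm α)}

/-- The 3-cycle `a → b → c → a`. -/
def tri (a b c : α) : Perm α := swap a b * swap b c

lemma tri_apply {a b c : α} (ab : a ≠ b) (ac : a ≠ c) (bc : b ≠ c) :
    tri a b c a = b ∧ tri a b c b = c ∧ tri a b c c = a := by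
  refine ⟨?_, ?_, ?_⟩ <;> simp [tri, swap_apply_def, ab, ac, bc, ab.symm, ac.symm, bc.symm]

omit [Fintype α] in
lemma tri_of_ne {a b c z : α} (h1 : z ≠ a) (h2 : z ≠ b) (h3 : z ≠ c) : tri a b c z = z := by
  simp [tri, swap_apply_def, h1, h2, h3]

lemma tri_eq {a b c : α} (ab : a ≠ b) (ac : a ≠ c) (bc : b ≠ c) {x : Perm α} (h1 : x a = b) (h2 : x b = c)
    (h3 : x c = a) (h4 : ∀ z, z ≠ a → z ≠ b → z ≠ c → x z = z) : x = tri a b c := by
  obtain ⟨t1, t2, t3⟩ := tri_apply ab ac bc
  refine Equiv.ext fun z => ?_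
  by_cases za : z = a
  · rw [za, h1, t1]
  by_cases zb : z = b
  · rw [zb, h2, t2]
  by_cases zc : z = c
  · rw [zc, h3, t3]
  rw [h4 z za zb zc, tri_of_ne za zb zc]

lemma tri_conj (g : Perm α) (a b c : α) : g * tri a b c * g⁻¹ = tri (g a) (g b) (g c) := by
  simp only [tri, Equiv.swap_apply_apply]
  group

lemma tri_rot {a b c : α} (ab : a ≠ b) (ac : a ≠ c) (bc : b ≠ c) : tri a b c = tri b c a := by
  obtain ⟨t1, t2, t3⟩ := tri_apply ab ac bc
  exact tri_eq bc ab.symm ac.symm t2 t3 t1 fun z h1 h2 h3 => tri_of_ne h3 h1 h2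

lemma tri_inv {a b c : α} (ab : a ≠ b) (ac : a ≠ c) (bc : b ≠ c) : (tri a b c)⁻¹ = tri a c b := by
  obtain ⟨t1, t2, t3⟩ := tri_apply ab ac bc
  refine tri_eq ac ab bc.symm ?_ ?_ ?_ fun z h1 h2 h3 => ?_ <;>
    rw [Perm.inv_eq_iff_eq]
  · exact t3.symm
  · exact t2.symm
  · exact t1.symm
  · exact (tri_of_ne h1 h3 h2).symm

/-- Two points are related when equal or on a common 3-cycle of `M`. -/
def Rel (M : Subgroup (Perm α)) (a b : α) : Prop :=
  a = b ∨ ∃ c, a ≠ b ∧ a ≠ c ∧ b ≠ c ∧ tri a b c ∈ M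

lemma rel_refl (a : α) : Rel M a a := Or.inl rfl

lemma rel_symm {a b : α} (h : Rel M a b) : Rel M b a := by
  rcases h with rfl | ⟨c, ab, ac, bc, hm⟩
  · exact rel_refl _
  · refine Or.inr ⟨c, ab.symm, bc, ac, ?_⟩
    rw [tri_rot ab.symm bc ac, ← tri_inv ab ac bc]
    exact inv_mem hm

lemma rel_map {g : Perm α} (hg : g ∈ Subgroup.normalizer (M : Set (Perm α))) {a b : α} (h : Rel M a b) :
    Rel M (g a) (g b) := by
  rcases h with rfl | ⟨c, ab, ac, bc, hm⟩
  · exact rel_refl _
  · refine Or.inr ⟨g c, by simpa, by simpa, by simpa, ?_⟩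
    rw [← tri_conj]
    exact (Subgroup.mem_normalizer_iff.1 hg _).1 hm

lemma rel_map' {g : Perm α} (hg : g ∈ M) {a b : α} (h : Rel M a b) : Rel M (g a) (g b) :=
  rel_map (Subgroup.le_normalizer hg) h

lemma rel_of_tri {a b c : α} (ab : a ≠ b) (ac : a ≠ c) (bc : b ≠ c) (hm : tri a b c ∈ M) :
    Rel M a b ∧ Rel M b c ∧ Rel M a c := by
  refine ⟨Or.inr ⟨c, ab, ac, bc, hm⟩, Or.inr ⟨a, bc, ab.symm, ac.symm, by rwa [← tri_rot ab ac bc]⟩, ?_⟩
  exact rel_symm (Or.inr ⟨b, ac.symm, bc.symm, ab, by rw [tri_rot ac.symm bc.symm ab]; exact hm⟩)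

lemma rel_trans {a b d : α} (h1 : Rel M a b) (h2 : Rel M b d) : Rel M a d := by
  rcases h1 with rfl | ⟨c, ab, ac, bc, hx⟩
  · exact h2
  rcases h2 with rfl | ⟨e, bd, be, de, hy⟩
  · exact Or.inr ⟨c, ab, ac, bc, hx⟩
  by_cases hda : a = d
  · exact Or.inl hda
  by_cases hae : a = e
  · subst hae
    exact rel_symm (rel_of_tri bd be de hy).2.1
  obtain ⟨y1, y2, y3⟩ := tri_apply bd be de
  have hm : tri a d (tri b d e c) ∈ M := by
    have := mul_mem (mul_mem hy hx) (inv_mem hy)
    rwa [tri_conj, y1, tri_of_ne ab hda hae] at this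
  refine (rel_of_tri hda ?_ ?_ hm).1
  · intro h
    rw [← tri_of_ne ab hda hae (z := a)] at h
    exact ac ((tri b d e).injective h)
  · intro h
    exact bc ((tri b d e).injective (y1.trans h))

/-- All 3-cycles inside a class lie in `M`. -/
lemma tri_mem {a b c : α} (ab : a ≠ b) (ac : a ≠ c) (bc : b ≠ c) (h1 : Rel M a b) (h2 : Rel M a c) :
    tri a b c ∈ M := by
  obtain ⟨z, _, az, bz, hx⟩ := h1.resolve_left ab
  by_cases hzc : z = c
  · exact hzc ▸ hx
  obtain ⟨-, -, haz⟩ := rel_of_tri ab az bz hx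
  obtain ⟨u, _, zu, cu, hy⟩ := (rel_trans (rel_symm haz) h2).resolve_left hzc
  obtain ⟨y1, y2, y3⟩ := tri_apply hzc zu cu
  obtain ⟨x1, x2, x3⟩ := tri_apply ab az bz
  have hxf : tri a b z c = c := tri_of_ne ac.symm bc.symm (Ne.symm hzc)
  by_cases hua : u = a
  · rw [hua] at hy
    rw [hua] at y1 y2 y3
    have h := mul_mem (mul_mem hx hy) (inv_mem hx)
    rw [tri_conj, x3, hxf, x1, tri_rot ac ab bc.symm] at h
    have h' : (tri a c b) ∈ M := by rwa [tri_rot ac ab bc.symm]
    have := inv_mem h'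
    rwa [tri_inv ac ab bc.symm] at this
  by_cases hub : u = b
  · rw [hub] at hy y1 y2 y3 cu zu
    have h := mul_mem (mul_mem (inv_mem hy) hx) (inv_mem (inv_mem hy))
    rw [tri_conj, tri_inv hzc zu cu] at h
    obtain ⟨w1, w2, w3⟩ := tri_apply zu hzc cu.symm
    rw [w1, w2, tri_of_ne az ab ac] at h
    have h' : tri a c b ∈ M := h
    have := inv_mem h'
    rwa [tri_inv ac ab bc.symm] at this
  have h := mul_mem (mul_mem hy hx) (inv_mem hy)
  rwa [tri_conj, y1, tri_of_ne az ac (Ne.symm hua), tri_of_ne bz bc (Ne.symm hub)] at h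

/-- The class of a point. -/
noncomputable def cls (M : Subgroup (Perm α)) (a : α) : Finset α :=
  @Finset.filter _ (Rel M a) (Classical.decPred _) Finset.univ

lemma mem_cls {a b : α} : b ∈ cls M a ↔ Rel M a b := by
  classical
  simp [cls]

lemma self_mem_cls (a : α) : a ∈ cls M a := mem_cls.2 (rel_refl a)

lemma cls_eq {a b : α} (h : Rel M a b) : cls M a = cls M b := by
  ext z
  rw [mem_cls, mem_cls]
  exact ⟨fun h' => rel_trans (rel_symm h) h', fun h' => rel_trans h h'⟩

lemma three_le_cls {a : α} (h : 2 ≤ (cls M a).card) : 3 ≤ (cls M a).card := by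
  obtain ⟨b, hb, hne⟩ := Finset.exists_mem_ne h a
  obtain ⟨c, ab, ac, bc, hm⟩ := (mem_cls.1 hb).resolve_left hne.symm
  obtain ⟨-, -, h2⟩ := rel_of_tri ab ac bc hm
  exact Finset.two_lt_card_iff.2 ⟨a, b, c, self_mem_cls a, hb, mem_cls.2 h2, ab, ac, bc⟩

lemma cls_image {g : Perm α} (hg : g ∈ M) (a : α) : (cls M a).image g = cls M (g a) := by
  ext z
  rw [Finset.mem_image, mem_cls]
  refine ⟨?_, fun h => ⟨g⁻¹ z, mem_cls.2 ?_, by simp⟩⟩
  · rintro ⟨w, hw, rfl⟩; exact rel_map' hg (mem_cls.1 hw)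
  · simpa using rel_map' (inv_mem hg) h

lemma card_cls_map {g : Perm α} (hg : g ∈ M) (a : α) : (cls M (g a)).card = (cls M a).card := by
  rw [← cls_image hg, Finset.card_image_of_injective _ g.injective]

lemma zmod_three_key : ∀ t : Multiplicative (ZMod 3),
    t ≠ Multiplicative.ofAdd 1 * t ∧
    t ≠ Multiplicative.ofAdd 1 * (Multiplicative.ofAdd 1 * t) ∧
    Multiplicative.ofAdd 1 * t ≠ Multiplicative.ofAdd 1 * (Multiplicative.ofAdd 1 * t) ∧
    Multiplicative.ofAdd 1 * (Multiplicative.ofAdd 1 * (Multiplicative.ofAdd 1 * t)) = t ∧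
    ∀ s, s = t ∨ s = Multiplicative.ofAdd 1 * t ∨
      s = Multiplicative.ofAdd 1 * (Multiplicative.ofAdd 1 * t) := by
  decide

namespace HallA

/-- At most two points are singleton classes. -/
theorem few_singles (hM : HallA π M) (h3 : 3 ∈ π) :
    (Finset.univ.filter fun a => (cls M a).card = 1).card ≤ 2 := by
  classical
  haveI : Fact (Nat.Prime 3) := ⟨Nat.prime_three⟩
  obtain ⟨e, he⟩ := hM.exists_cycles h3 (by norm_num)
  have hsub : (Finset.univ.filter fun a => (cls M a).card = 1) ⊆ Finset.univ.filter fun y => ∀ q, e q ≠ y := by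
    intro a ha
    simp only [Finset.mem_filter, Finset.mem_univ, true_and] at ha ⊢
    rintro ⟨i, t⟩ rfl
    let v : Multiplicative (ZMod 3) := Multiplicative.ofAdd 1
    obtain ⟨x, hx, hx1, hx2⟩ := he i v
    have hne : ∀ s s' : Multiplicative (ZMod 3), s ≠ s' → e (i, s) ≠ e (i, s') := fun s s' h h' => h (by simpa using e.injective h')
    obtain ⟨k1, k2, k3, k4, k5⟩ := zmod_three_key t
    have hm : tri (e (i, t)) (e (i, v * t)) (e (i, v * (v * t))) ∈ M := by
      rw [← tri_eq (x := x) (hne _ _ k1) (hne _ _ k2) (hne _ _ k3) (hx1 _) (hx1 _) (by rw [hx1, k4]) ?_]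
      · exact hx
      · intro z z1 z2 z3
        refine hx2 z fun s hs => ?_
        rcases k5 s with rfl | rfl | rfl
        exacts [z1 hs.symm, z2 hs.symm, z3 hs.symm]
    have h2 : 2 ≤ (cls M (e (i, t))).card := Finset.one_lt_card.2
      ⟨_, self_mem_cls _, _, mem_cls.2 (rel_of_tri (hne _ _ k1) (hne _ _ k2) (hne _ _ k3) hm).1, hne _ _ k1⟩
    omega
  have h1 := Finset.card_le_card hsub
  have h2 := card_compl_blks e
  have h4 := Nat.div_add_mod' (Fintype.card α) 3
  simp only [Fintype.card_multiplicative, ZMod.card] at h2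
  omega

/-- An odd prime of `π` is at most the size of some class. -/
theorem prime_le_cls (hM : HallA π M) (h3 : 3 ∈ π) {p : ℕ} (hp : p.Prime) (hp2 : p ≠ 2) (hpπ : p ∈ π)
    (hpn : p ≤ Fintype.card α) : ∃ a, p ≤ (cls M a).card := by
  classical
  haveI := Fact.mk hp
  obtain ⟨e, he⟩ := hM.exists_cycles hpπ hp2
  let i : Fin (Fintype.card α / p) := ⟨0, Nat.div_pos hpn hp.pos⟩
  obtain ⟨t, ht⟩ : ∃ t, (cls M (e (i, t))).card ≠ 1 := by
    by_contra h
    push Not at h
    have hsub : blk e i ⊆ Finset.univ.filter fun a => (cls M a).card = 1 := fun y hy => by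
      obtain ⟨t, rfl⟩ := mem_blk.1 hy; simp [h t]
    have h1 := (Finset.card_le_card hsub).trans (hM.few_singles h3)
    simp [card_blk] at h1
    have := hp.two_le
    omega
  refine ⟨e (i, t), ?_⟩
  have h2 : 2 ≤ (cls M (e (i, t))).card := by
    have := Finset.card_pos.2 ⟨_, self_mem_cls (M := M) (e (i, t))⟩
    omega
  have := Finset.card_le_card (block_sub hp (by simp) (he i) (fun g hg x hx hgx z hz =>
    mem_cls.2 (rel_trans (mem_cls.1 hgx) (rel_map' hg (rel_trans (rel_symm (mem_cls.1 hx)) (mem_cls.1 hz))))) h2 (t := t) (self_mem_cls _))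
  simpa [card_blk] using this

/-- A prime at most the size of a class is in `π`. -/
theorem prime_mem_of_cls (hM : HallA π M) (h2 : 2 ∈ π) {a : α} {p : ℕ} (hp : p.Prime)
    (hle : p ≤ (cls M a).card) : p ∈ π := by
  classical
  rcases eq_or_ne p 2 with rfl | hp2
  · exact h2
  let T := {x : α // x ∈ cls M a}
  let f : Perm T →* Perm α := Perm.ofSubtype
  have hA : alternatingGroup T ≤ M.comap f := by
    rw [← Perm.closure_three_cycles_eq_alternating, Subgroup.closure_le]
    intro σ hσ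
    obtain ⟨x, hx⟩ : σ.support.Nonempty := Finset.card_pos.1 (by rw [Perm.IsThreeCycle.card_support hσ]; norm_num)
    have hsup := (Perm.IsThreeCycle.support_eq_iff_mem_support hσ).2 hx
    have hnd := (Perm.IsThreeCycle.nodup_iff_mem_support hσ).2 hx
    simp only [List.nodup_cons, List.mem_cons, List.not_mem_nil, or_false, not_or] at hnd
    obtain ⟨⟨n1, n2⟩, n3, -⟩ := hnd
    have v1 : (x : α) ≠ (σ x).1 := fun h => n1 (Subtype.ext h)
    have v2 : (x : α) ≠ (σ (σ x)).1 := fun h => n2 (Subtype.ext h)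
    have v3 : (σ x).1 ≠ (σ (σ x)).1 := fun h => n3 (Subtype.ext h)
    have hσ3 : σ (σ (σ x)) = x := by
      have hmem : σ (σ (σ x)) ∈ σ.support := by simpa using hx
      rw [hsup] at hmem
      simp only [Finset.mem_insert, Finset.mem_singleton] at hmem
      rcases hmem with h | h | h
      · exact h
      · exact absurd (σ.injective h).symm n2
      · exact absurd (σ.injective h).symm n3
    show f σ ∈ M
    rw [tri_eq (x := f σ) v1 v2 v3 (Perm.ofSubtype_apply_coe σ x) (Perm.ofSubtype_apply_coe σ _)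
      ((Perm.ofSubtype_apply_coe σ _).trans (congrArg Subtype.val hσ3))]
    · exact tri_mem v1 v2 v3 (rel_trans (rel_symm (mem_cls.1 x.2)) (mem_cls.1 (σ x).2))
        (rel_trans (rel_symm (mem_cls.1 x.2)) (mem_cls.1 (σ (σ x)).2))
    · intro z h1 h2 h3
      by_cases hz : z ∈ cls M a
      · rw [show z = ((⟨z, hz⟩ : T) : α) from rfl, Perm.ofSubtype_apply_coe, Subtype.coe_inj]
        refine Perm.notMem_support.1 fun hm => ?_
        rw [hsup] at hm
        simp only [Finset.mem_insert, Finset.mem_singleton] at hm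
        rcases hm with h | h | h
        exacts [h1 (congrArg Subtype.val h), h2 (congrArg Subtype.val h), h3 (congrArg Subtype.val h)]
      · exact Perm.ofSubtype_apply_of_not_mem σ hz
  have hcard : Fintype.card T = (cls M a).card := Fintype.card_coe _
  haveI : Nontrivial T := Fintype.one_lt_card_iff_nontrivial.1 (by have := hp.two_le; omega)
  have h1 : p ∣ Nat.card (alternatingGroup T) := by
    have h := hp.dvd_factorial.2 (hcard ▸ hle)
    rw [← Fintype.card_perm, ← two_mul_card_alternatingGroup] at h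
    rw [Nat.card_eq_fintype_card]
    exact (hp.dvd_mul.1 h).resolve_left fun h => hp2 ((Nat.prime_dvd_prime_iff_eq hp Nat.prime_two).1 h)
  exact hM.pi p hp (h1.trans ((Subgroup.card_dvd_of_le hA).trans
    (Subgroup.card_comap_dvd_of_injective M f Perm.ofSubtype_injective)))

end HallA

end Cfsg.Agent.AltHall
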