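/-
P. Hall and Thompson: the Hall subgroups of the alternating and symmetric groups.
-/
import Cfsg.Agent.Lib.AltHall.Arith
import Cfsg.Agent.Lib.AltHall.Classes
import Cfsg.Prelude.Def_HallClasses

set_option autoImplicit false

namespace Cfsg.Agent.AltHall

open Equiv MulAction

variable {α : Type*} [Fintype α] [DecidableEq α] {π : Set ℕ} {M : Subgroup (Perm α)}

/-- The permutations preserving the fibres of `f`. -/
def fibStab {ι : Type*} (f : α → ι) : Subgroup (Perm α) where
  carrier := {g | f ∘ g = f}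
  mul_mem' {g h} hg hh := by
    show f ∘ (g * h) = f
    rw [Perm.coe_mul, ← Function.comp_assoc, hg, hh]
  one_mem' := rfl
  inv_mem' {g} hg := by
    show f ∘ ⇑(g⁻¹) = f
    funext x
    conv_rhs => rw [show x = g (g⁻¹ x) by simp]
    exact (congrFun hg _).symm

lemma mem_fibStab {ι : Type*} {f : α → ι} {g : Perm α} : g ∈ fibStab f ↔ f ∘ g = f := Iff.rfl

lemma card_fibStab {ι : Type*} [Fintype ι] [DecidableEq ι] (f : α → ι) :
    Nat.card (fibStab f) = ∏ i, (Finset.univ.filter fun a => f a = i).card.factorial := by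
  classical
  rw [show Nat.card (fibStab f) = Nat.card {g : Perm α // f ∘ g = f} from rfl, Nat.card_eq_fintype_card,
    DomMulAct.stabilizer_card f]
  exact Finset.prod_congr rfl fun i _ => by rw [Fintype.card_subtype]

lemma card_alt_mul (h : 1 < Fintype.card α) :
    2 * Nat.card (alternatingGroup α) = (Fintype.card α).factorial := by
  haveI : Nontrivial α := Fintype.one_lt_card_iff_nontrivial.1 h
  rw [two_mul_nat_card_alternatingGroup, Nat.card_perm, Nat.card_eq_fintype_card]

/-- The index of `M` is divisible by that of a wreath type overgroup. -/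
theorem dvd_relIndex (hA : M ≤ alternatingGroup α) {ι κ : Type*} [Fintype ι] [DecidableEq ι] [Fintype κ]
    [DecidableEq κ] (f : α → ι) (ψ : M →* Perm κ) (hker : ∀ g : M, ψ g = 1 → f ∘ (g : Perm α) = f)
    {a b : α} (hab : a ≠ b) (hfab : f a = f b) {N : ℕ}
    (hN : N * ((Fintype.card κ).factorial * ∏ i, (Finset.univ.filter fun a => f a = i).card.factorial) =
      (Fintype.card α).factorial) :
    N ∣ M.relIndex (alternatingGroup α) := by
  classical
  set A := alternatingGroup α
  have hn : 1 < Fintype.card α := Fintype.one_lt_card_iff.2 ⟨a, b, hab⟩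
  haveI : Nontrivial α := Fintype.one_lt_card_iff_nontrivial.1 hn
  set H := fibStab f with hH
  have hswap : swap a b ∈ H := by
    rw [hH, mem_fibStab]; funext x
    rcases eq_or_ne x a with rfl | h1
    · simp [hfab]
    rcases eq_or_ne x b with rfl | h2
    · simp [hfab]
    simp [swap_apply_of_ne_of_ne h1 h2]
  have h2 : A.relIndex H = 2 := by
    have hd : A.relIndex H ∣ 2 := (alternatingGroup.index_eq_two (α := α)) ▸ Subgroup.relIndex_dvd_index_of_normal A H
    rcases (Nat.dvd_prime Nat.prime_two).1 hd with h | h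
    · have : swap a b ∈ A := Subgroup.relIndex_eq_one.1 h hswap
      simp [A, Perm.mem_alternatingGroup, Perm.sign_swap hab] at this
    · exact h
  have hHA : Nat.card (A ⊓ H : Subgroup (Perm α)) * 2 = Nat.card H := by
    rw [← h2, Subgroup.relIndex, ← Subgroup.card_mul_index (A.subgroupOf H), ← Subgroup.inf_subgroupOf_right,
      Nat.card_congr (Subgroup.subgroupOfEquivOfLe (show A ⊓ H ≤ H from inf_le_right)).toEquiv]
  have hk : Nat.card ψ.ker ∣ Nat.card (A ⊓ H : Subgroup (Perm α)) := by
    refine Subgroup.card_dvd_of_injective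
      ((M.subtype.comp ψ.ker.subtype).codRestrict (A ⊓ H) fun g => ⟨hA g.1.2, hker g.1 g.2⟩) fun g h e => ?_
    exact Subtype.ext (Subtype.ext (congrArg (fun z : (A ⊓ H : Subgroup (Perm α)) => (z : Perm α)) e))
  have hi : ψ.ker.index ∣ (Fintype.card κ).factorial := by
    rw [Subgroup.index_ker, ← Fintype.card_perm, ← Nat.card_eq_fintype_card]
    exact Subgroup.card_subgroup_dvd_card _
  obtain ⟨c, hc⟩ : Nat.card M ∣ (Fintype.card κ).factorial * Nat.card (A ⊓ H : Subgroup (Perm α)) := by
    rw [← Subgroup.card_mul_index ψ.ker, mul_comm (Nat.card ψ.ker)]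
    exact Nat.mul_dvd_mul hi hk
  have hcard : Nat.card M * M.relIndex A = Nat.card A := by
    rw [Subgroup.relIndex, ← Subgroup.card_mul_index (M.subgroupOf A),
      Nat.card_congr (Subgroup.subgroupOfEquivOfLe hA).toEquiv]
  refine ⟨c, Nat.eq_of_mul_eq_mul_left (Nat.card_pos (α := M)) ?_⟩
  apply Nat.eq_of_mul_eq_mul_left (show 0 < 2 by norm_num)
  rw [hcard, card_alt_mul hn, ← hN, ← card_fibStab f, ← hH, ← hHA,
    show (Fintype.card κ).factorial * (Nat.card (A ⊓ H : Subgroup (Perm α)) * 2) = Nat.card M * c * 2 by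
      rw [← hc]; ring]
  ring

namespace HallA

/-- Two disjoint invariant sets. -/
theorem invariant_pair (hM : HallA π M) {X Y : Finset α} (hdis : Disjoint X Y)
    (hX : ∀ g ∈ M, ∀ x, g x ∈ X ↔ x ∈ X) (hY : ∀ g ∈ M, ∀ x, g x ∈ Y ↔ x ∈ Y) (h2 : 2 ≤ X.card)
    {p : ℕ} (hp : p.Prime) (hpπ : p ∈ π) : ¬ p ∣ (X.card + Y.card).choose X.card := by
  classical
  intro hd
  obtain ⟨a, ha, b, hb, hab⟩ := Finset.one_lt_card.1 h2
  let f : α → Fin 3 := fun x => if x ∈ X then 0 else if x ∈ Y then 1 else 2
  refine hM.idx p hp hpπ (dvd_trans (hd.trans (Dvd.intro_left ((Fintype.card α).choose (X.card + Y.card)) rfl))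
    (dvd_relIndex hM.le f (1 : M →* Perm (Fin 1)) (fun g _ => ?_) hab (by simp [f, ha, hb]) ?_))
  · funext x; simp [f, hX g g.2 x, hY g g.2 x]
  · have e0 : (Finset.univ.filter fun x => f x = 0) = X := by
      ext x
      by_cases h1 : x ∈ X <;> by_cases h2 : x ∈ Y <;> simp [f, h1, h2]
    have e1 : (Finset.univ.filter fun x => f x = 1) = Y := by
      ext x
      by_cases h1 : x ∈ X
      · simp [f, h1, Finset.disjoint_left.1 hdis h1]
      · by_cases h2 : x ∈ Y <;> simp [f, h1, h2]
    have e2 : (Finset.univ.filter fun x => f x = 2) = (X ∪ Y)ᶜ := by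
      ext x
      by_cases h1 : x ∈ X <;> by_cases h2 : x ∈ Y <;> simp [f, h1, h2]
    have hu : (X ∪ Y).card = X.card + Y.card := Finset.card_union_of_disjoint hdis
    rw [Fin.prod_univ_three, e0, e1, e2, Finset.card_compl, hu]
    have hle : X.card + Y.card ≤ Fintype.card α := hu ▸ Finset.card_le_univ _
    have h' := Nat.choose_mul_factorial_mul_factorial (Nat.le_add_right X.card Y.card)
    rw [Nat.add_sub_cancel_left] at h'
    rw [Fintype.card_fin, Nat.factorial_one, one_mul,
      ← Nat.choose_mul_factorial_mul_factorial hle, ← h']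
    ring

end HallA

/-- The points whose class is conjugate to that of `a`. -/
noncomputable def unit (M : Subgroup (Perm α)) (a : α) : Finset α :=
  @Finset.filter _ (fun z => ∃ g ∈ M, Rel M (g a) z) (Classical.decPred _) Finset.univ

lemma mem_unit {a z : α} : z ∈ unit M a ↔ ∃ g ∈ M, Rel M (g a) z := by
  classical
  simp [unit]

lemma unit_invariant {a : α} : ∀ g ∈ M, ∀ x, g x ∈ unit M a ↔ x ∈ unit M a := by
  intro g hg x
  simp only [mem_unit]
  constructor
  · rintro ⟨h, hh, hr⟩
    exact ⟨g⁻¹ * h, mul_mem (inv_mem hg) hh, by simpa using rel_map' (inv_mem hg) hr⟩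
  · rintro ⟨h, hh, hr⟩
    exact ⟨g * h, mul_mem hg hh, by simpa using rel_map' hg hr⟩

lemma self_mem_unit (a : α) : a ∈ unit M a := mem_unit.2 ⟨1, one_mem _, rel_refl _⟩

lemma card_cls_of_unit {a z : α} (h : z ∈ unit M a) : (cls M z).card = (cls M a).card := by
  obtain ⟨g, hg, hr⟩ := mem_unit.1 h
  rw [← cls_eq hr, card_cls_map hg]

lemma unit_disjoint {a z : α} (h : z ∉ unit M a) : Disjoint (unit M a) (unit M z) := by
  rw [Finset.disjoint_left]
  intro x hx hx'
  obtain ⟨g, hg, hr⟩ := mem_unit.1 hx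
  obtain ⟨g', hg', hr'⟩ := mem_unit.1 hx'
  apply h
  have := rel_map' (inv_mem hg') (rel_trans hr (rel_symm hr'))
  exact mem_unit.2 ⟨g'⁻¹ * g, mul_mem (inv_mem hg') hg, by simpa using this⟩

namespace HallA

/-- Sizes of the conjugate classes. -/
theorem unit_card (hM : HallA π M) {a : α} (h3 : 3 ≤ (cls M a).card)
    (hπ : ∀ p, p.Prime → p ≤ (cls M a).card → p ∈ π) :
    (unit M a).card = (cls M a).card ∨
      ((cls M a).card = 4 ∧ (unit M a).card = 8 ∧ ∀ p, p.Prime → p ∈ π → ¬ p ∣ 35) := by
  classical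
  set b := (cls M a).card with hb
  let O : Finset (Finset α) := (unit M a).image (cls M)
  have hO : ∀ C ∈ O, C.card = b ∧ C ⊆ unit M a ∧ ∀ x ∈ C, cls M x = C := by
    intro C hC
    obtain ⟨z, hz, rfl⟩ := Finset.mem_image.1 hC
    refine ⟨card_cls_of_unit hz, fun x hx => ?_, fun x hx => (cls_eq (mem_cls.1 hx)).symm⟩
    obtain ⟨g, hg, hr⟩ := mem_unit.1 hz
    exact mem_unit.2 ⟨g, hg, rel_trans hr (mem_cls.1 hx)⟩
  have hunit : (unit M a).card = O.card * b := by
    rw [Finset.card_eq_sum_card_image (cls M) (unit M a),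
      Finset.sum_congr rfl (g := fun _ => b), Finset.sum_const, smul_eq_mul]
    intro C hC
    obtain ⟨h1, h2, h4⟩ := hO C hC
    rw [← h1]
    congr 1
    ext x
    simp only [Finset.mem_filter]
    exact ⟨fun h => h.2 ▸ self_mem_cls x, fun h => ⟨h2 h, h4 x h⟩⟩
  have hmaps : ∀ g ∈ M, ∀ C ∈ O, C.image g ∈ O := by
    intro g hg C hC
    obtain ⟨z, hz, rfl⟩ := Finset.mem_image.1 hC
    rw [cls_image hg]
    exact Finset.mem_image_of_mem _ ((unit_invariant g hg z).2 hz)
  let ψ : M →* Perm O :=
    { toFun := fun g => ⟨fun C => ⟨C.1.image (g : Perm α), hmaps g g.2 C C.2⟩,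
        fun C => ⟨C.1.image ⇑((g : Perm α)⁻¹), hmaps _ (inv_mem g.2) C C.2⟩,
        fun C => Subtype.ext (by simp [Finset.image_image, Function.comp_def]),
        fun C => Subtype.ext (by simp [Finset.image_image, Function.comp_def])⟩
      map_one' := by ext C; simp
      map_mul' := fun g h => by ext C; simp [Finset.image_image, Function.comp_def] }
  let f : α → Option O := fun z => if h : cls M z ∈ O then some ⟨_, h⟩ else none
  have hker : ∀ g : M, ψ g = 1 → f ∘ (g : Perm α) = f := by
    intro g hg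
    funext z
    by_cases h : cls M z ∈ O
    · have h1 : (cls M z).image (g : Perm α) = cls M z := by
        have := congrArg (fun e : Perm O => ((e ⟨_, h⟩ : O) : Finset α)) hg
        simpa [ψ] using this
      rw [cls_image g.2] at h1
      simp [f, h1]
    · have h1 : cls M ((g : Perm α) z) ∉ O := by
        intro h1
        have := hmaps _ (inv_mem g.2) _ h1
        rw [cls_image (inv_mem g.2)] at this
        exact h (by simpa using this)
      simp [f, h, h1]
  have hfib : ∏ i, (Finset.univ.filter fun z => f z = i).card.factorial =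
      b.factorial ^ O.card * (Fintype.card α - O.card * b).factorial := by
    have hsome : ∀ C : O, (Finset.univ.filter fun z => f z = some C) = C.1 := by
      intro C
      ext z
      simp only [Finset.mem_filter, Finset.mem_univ, true_and, f]
      constructor
      · intro h
        split_ifs at h with h'
        rw [Option.some.injEq] at h
        rw [← h]; exact self_mem_cls z
      · intro h
        have e := (hO C C.2).2.2 z h
        rw [dif_pos (e.symm ▸ C.2)]
        exact congrArg some (Subtype.ext e)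
    have hnone : (Finset.univ.filter fun z => f z = none) = (unit M a)ᶜ := by
      ext z
      simp only [Finset.mem_filter, Finset.mem_univ, true_and, f, Finset.mem_compl]
      constructor
      · intro h hz
        rw [dif_pos (Finset.mem_image_of_mem _ hz)] at h
        cases h
      · intro h
        rw [dif_neg]
        exact fun h' => h ((hO _ h').2.1 (self_mem_cls z))
    rw [Fintype.prod_option, hnone, Finset.card_compl, hunit,
      Finset.prod_congr rfl (fun C _ => by rw [hsome C, (hO C C.2).1]), Finset.prod_const, Finset.card_univ,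
      Fintype.card_coe]
    ring
  obtain ⟨x, hx, hax⟩ := Finset.exists_mem_ne (show 1 < (cls M a).card by omega) a
  have hle : O.card * b ≤ Fintype.card α := hunit ▸ Finset.card_le_univ _
  have hdiv : (Fintype.card α).choose (O.card * b) * Nat.uniformBell O.card b ∣ M.relIndex (alternatingGroup α) := by
    refine dvd_relIndex hM.le f ψ hker hax.symm (by simp [f, cls_eq (mem_cls.1 hx)]) ?_
    rw [hfib, Fintype.card_coe, ← Nat.choose_mul_factorial_mul_factorial hle,
      ← Nat.uniformBell_mul_eq O.card (show b ≠ 0 by omega)]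
    ring
  have hterm : ∀ i < O.card, ∀ p, p.Prime → p ∈ π → ¬ p ∣ (i * b + b - 1).choose (b - 1) := by
    intro i hi p hp hpπ hd
    refine hM.idx p hp hpπ ((hd.trans ?_).trans hdiv)
    refine Dvd.dvd.mul_left ?_ _
    rw [Nat.uniformBell_eq]
    exact Finset.dvd_prod_of_mem (fun i => (i * b + b - 1).choose (b - 1)) (Finset.mem_range.2 hi)
  have hpos : 0 < O.card := Finset.card_pos.2 ⟨_, Finset.mem_image_of_mem _ (self_mem_unit a)⟩
  rcases Nat.lt_or_ge O.card 2 with ht | ht
  · left; rw [hunit, show O.card = 1 by omega, one_mul]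
  have hb4 : b = 4 := central b h3 fun p hp hle' hd => hterm 1 (by omega) p hp (hπ p hp hle') (by
    rwa [show 1 * b + b - 1 = 2 * b - 1 by omega, ← Nat.choose_symm (by omega),
      show 2 * b - 1 - (b - 1) = b by omega])
  right
  have ht2 : O.card = 2 := by
    by_contra h
    exact hterm 2 (by omega) 3 Nat.prime_three (hπ 3 Nat.prime_three h3) (by rw [hb4]; decide)
  refine ⟨hb4, by rw [hunit, ht2, hb4], fun p hp hpπ hd => hterm 1 (by omega) p hp hpπ ?_⟩
  rw [hb4]; exact hd

end HallA

/-- The stabiliser of the partition `{X, Xᶜ}`. -/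
def pStab (X : Finset α) : Subgroup (Perm α) where
  carrier := {g | ∀ a b, ((a ∈ X) ↔ (b ∈ X)) ↔ ((g a ∈ X) ↔ (g b ∈ X))}
  mul_mem' {g h} hg hh a b := (hh a b).trans (hg _ _)
  one_mem' a b := Iff.rfl
  inv_mem' {g} hg a b := by simpa using (hg (g⁻¹ a) (g⁻¹ b)).symm

omit [Fintype α] [DecidableEq α] in
lemma mem_pStab {X : Finset α} {g : Perm α} :
    g ∈ pStab X ↔ ∀ a b, ((a ∈ X) ↔ (b ∈ X)) ↔ ((g a ∈ X) ↔ (g b ∈ X)) := Iff.rfl

theorem pStab_pi {X : Finset α} {B : ℕ} (h1 : X.card ≤ B) (h2 : Xᶜ.card ≤ B) (h2π : 2 ∈ π)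
    (hB : ∀ p, p.Prime → p ≤ B → p ∈ π) : ∀ p, p.Prime → p ∣ Nat.card (pStab X) → p ∈ π := by
  intro p hp hd
  by_cases hp2 : p = 2
  · exact hp2 ▸ h2π
  haveI := Fact.mk hp
  obtain ⟨⟨g, hg⟩, hord⟩ := exists_prime_orderOf_dvd_card' p hd
  rw [Subgroup.orderOf_mk] at hord
  refine hB p hp ?_
  -- `g ^ 2` preserves both parts
  have hsq : ∀ a, ((g ^ 2) a ∈ X ↔ a ∈ X) := by
    intro a
    have := hg a (g a)
    rw [pow_two, Perm.mul_apply]
    tauto
  have hpow : ∀ m : ℕ, ∀ a, ((g ^ 2) ^ m) a ∈ X ↔ a ∈ X := by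
    intro m
    induction m with
    | zero => simp
    | succ m ih => intro a; rw [pow_succ', Perm.mul_apply, hsq, ih]
  have hgpres : ∀ a, g a ∈ X ↔ a ∈ X := by
    obtain ⟨m, hm⟩ := hp.odd_of_ne_two hp2
    intro a
    have h : g = (g ^ 2) ^ (m + 1) := by
      rw [← pow_mul, show 2 * (m + 1) = p + 1 by omega, pow_succ, ← hord, pow_orderOf_eq_one, one_mul]
    conv_lhs => rw [h]
    exact hpow _ a
  obtain ⟨a, ha⟩ : ∃ a, g a ≠ a := by
    by_contra h; push Not at h
    have : g = 1 := Equiv.ext h
    rw [this, orderOf_one] at hord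
    exact hp.ne_one hord.symm
  have hper : Function.minimalPeriod (⇑g) a = p := by
    refine Function.minimalPeriod_eq_prime ?_ ha
    show Function.IsFixedPt _ a
    rw [← Perm.coe_pow, ← hord, pow_orderOf_eq_one]; rfl
  have hmem : ∀ m : ℕ, (g ^ m) a ∈ X ↔ a ∈ X := by
    intro m
    induction m with
    | zero => simp
    | succ m ih => rw [pow_succ', Perm.mul_apply, hgpres, ih]
  let orb := (Finset.range p).image fun m => (g ^ m) a
  have hcard : orb.card = p := by
    rw [Finset.card_image_of_injOn, Finset.card_range]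
    intro i hi j hj h
    simp only [Perm.coe_pow] at h
    refine Function.iterate_injOn_Iio_minimalPeriod ?_ ?_ h <;> rw [hper]
    · exact Finset.mem_range.1 hi
    · exact Finset.mem_range.1 hj
  by_cases haX : a ∈ X
  · refine hcard ▸ le_trans (Finset.card_le_card ?_) h1
    intro y hy
    obtain ⟨m, -, rfl⟩ := Finset.mem_image.1 hy
    exact (hmem m).2 haX
  · refine hcard ▸ le_trans (Finset.card_le_card ?_) h2
    intro y hy
    obtain ⟨m, -, rfl⟩ := Finset.mem_image.1 hy
    rw [Finset.mem_compl, hmem m]; exact haX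

/-- The parameters of the exceptional Hall subgroups. -/
def Shape (π : Set ℕ) (X : Finset α) : Prop :=
  ((Fintype.card α).Prime ∧ 5 ≤ Fintype.card α ∧ X.card = Fintype.card α - 1 ∧
      ∀ r : ℕ, r.Prime → r ≤ Fintype.card α → (r ∈ π ↔ r < Fintype.card α)) ∨
    ((Fintype.card α = 7 ∨ Fintype.card α = 8) ∧ X.card = 4 ∧
      ∀ r : ℕ, r.Prime → r ≤ Fintype.card α → (r ∈ π ↔ (r = 2 ∨ r = 3)))

/-- At most one prime up to `n` lies in `π`. -/
def Few (π : Set ℕ) (n : ℕ) : Prop :=
  ∀ r s : ℕ, r.Prime → s.Prime → r ∈ π → s ∈ π → r ≤ n → s ≤ n → r = s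

/-- All primes up to `n` lie in `π`. -/
def All (π : Set ℕ) (n : ℕ) : Prop := ∀ r : ℕ, r.Prime → r ≤ n → r ∈ π

lemma prime_le_of_dvd {K : Subgroup (Perm α)} {p : ℕ} (hp : p.Prime) (h : p ∣ Nat.card K) :
    p ≤ Fintype.card α := by
  have := h.trans (Subgroup.card_subgroup_dvd_card K)
  rw [Nat.card_perm, Nat.card_eq_fintype_card] at this
  exact hp.dvd_factorial.1 this

namespace HallA

theorem trichotomy (hM : HallA π M) :
    Few π (Fintype.card α) ∨ All π (Fintype.card α) ∨
      ∃ X : Finset α, Shape π X ∧ M = pStab X ⊓ alternatingGroup α ∧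
        Subgroup.normalizer (M : Set (Perm α)) ≤ pStab X := by
  classical
  by_cases hfew : Few π (Fintype.card α)
  · exact Or.inl hfew
  by_cases hall : All π (Fintype.card α)
  · exact Or.inr (Or.inl hall)
  refine Or.inr (Or.inr ?_)
  simp only [Few, not_forall] at hfew
  obtain ⟨r, s, hr, hs, hrπ, hsπ, hrn, hsn, hrs⟩ := hfew
  have h2 : 2 ∈ π := by
    by_contra h2
    rcases lt_or_gt_of_ne hrs with h | h
    exacts [no_two hM h2 hr hs hrπ hsπ h hsn, no_two hM h2 hs hr hsπ hrπ h hrn]
  obtain ⟨p, hp, hpπ, hpn, hp2⟩ : ∃ p, p.Prime ∧ p ∈ π ∧ p ≤ Fintype.card α ∧ p ≠ 2 := by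
    by_cases h : r = 2
    · exact ⟨s, hs, hsπ, hsn, fun h' => hrs (h.trans h'.symm)⟩
    · exact ⟨r, hr, hrπ, hrn, h⟩
  have hp3 : 3 ≤ p := by have := hp.two_le; omega
  have h3 : 3 ∈ π := by
    by_contra h3
    have : p ≠ 3 := fun h => h3 (h ▸ hpπ)
    have : p ≠ 4 := by rintro rfl; norm_num at hp
    exact no_three hM h2 h3 hp (by omega) hpπ hpn
  haveI : Nonempty α := Fintype.card_pos_iff.1 (by omega)
  obtain ⟨a, -, hmax⟩ := Finset.exists_max_image Finset.univ (fun a => (cls M a).card) Finset.univ_nonempty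
  set B := (cls M a).card with hB
  have hπB : ∀ p, p.Prime → p ≤ B → p ∈ π := fun p hp hle => hM.prime_mem_of_cls h2 hp hle
  have hBπ : ∀ q, q.Prime → q ∈ π → q ≤ Fintype.card α → q ≤ B ∨ q = 2 := fun q hq hqπ hqn => by
    by_cases hq2 : q = 2
    · exact Or.inr hq2
    obtain ⟨z, hz⟩ := hM.prime_le_cls h3 hq hq2 hqπ hqn
    exact Or.inl (hz.trans (hmax z (Finset.mem_univ _)))
  have hB3 : 3 ≤ B := by
    obtain ⟨z, hz⟩ := hM.prime_le_cls h3 Nat.prime_three (by norm_num) h3 (by omega)
    exact hz.trans (hmax z (Finset.mem_univ _))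
  simp only [All, not_forall] at hall
  obtain ⟨m, hm, hmn, hmπ⟩ := hall
  have hmB : B < m := by
    by_contra h; exact hmπ (hπB m hm (by omega))
  have ha := hM.unit_card (a := a) hB3 hπB
  -- units outside that of `a`
  have hout : ∀ z ∉ unit M a, B = (unit M a).card ∧
      ((B + 1).Prime ∧ (cls M z).card = 1 ∧ unit M z = {z} ∨ B = 4 ∧ (cls M z).card = 3 ∧ (unit M z).card = 3) := by
    intro z hz
    have hzB : (cls M z).card ≤ B := hmax z (Finset.mem_univ _)
    have hzpos : 0 < (cls M z).card := Finset.card_pos.2 ⟨z, self_mem_cls z⟩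
    have h2a : 2 ≤ (unit M a).card := by rcases ha with h | ⟨h, h', -⟩ <;> omega
    by_cases h1 : (cls M z).card = 1
    · let Y := Finset.univ.filter fun y => (cls M y).card = 1
      have hY : ∀ g ∈ M, ∀ x, g x ∈ Y ↔ x ∈ Y := fun g hg x => by simp [Y, card_cls_map hg]
      have hdis : Disjoint (unit M a) Y := by
        rw [Finset.disjoint_left]
        intro x hx hx'
        simp [Y, card_cls_of_unit hx] at hx'
        omega
      have hnd := fun {p : ℕ} (hp : p.Prime) hpπ => hM.invariant_pair hdis unit_invariant hY h2a hp hpπ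
      have hY2 : Y.card ≤ 2 := hM.few_singles h3
      have hYpos : 0 < Y.card := Finset.card_pos.2 ⟨z, by simp [Y, h1]⟩
      rcases ha with ha | ⟨h4, h8, -⟩
      · rw [ha] at hnd
        rcases pair B Y.card hB3 hYpos (by omega) (fun p hp hle hd => hnd hp (hπB p hp hle) (by
            rwa [Nat.choose_symm_of_eq_add rfl])) with ⟨hk, hpr⟩ | ⟨-, hk⟩
        · refine ⟨ha.symm, Or.inl ⟨hpr, h1, ?_⟩⟩
          ext x
          simp only [Finset.mem_singleton]
          refine ⟨fun hx => ?_, fun hx => by rw [hx]; exact self_mem_unit z⟩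
          obtain ⟨w, hw⟩ := Finset.card_eq_one.1 hk
          have h5 : x ∈ Y := by simp [Y, card_cls_of_unit hx, h1]
          have h6 : z ∈ Y := by simp [Y, h1]
          rw [hw, Finset.mem_singleton] at h5 h6
          rw [h5, h6]
        · omega
      · exfalso
        rw [h8] at hnd
        rcases (show Y.card = 1 ∨ Y.card = 2 by omega) with hk | hk <;> rw [hk] at hnd <;>
          exact hnd Nat.prime_three h3 (by decide)
    · have hz3 : 3 ≤ (cls M z).card := three_le_cls (by omega)
      have hu := hM.unit_card hz3 fun p hp hle => hπB p hp (hle.trans hzB)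
      have hnd := fun {p : ℕ} (hp : p.Prime) hpπ =>
        hM.invariant_pair (unit_disjoint hz) unit_invariant unit_invariant h2a hp hpπ
      rcases ha with ha | ⟨h4, h8, -⟩
      · rw [ha] at hnd
        rcases hu with hu | ⟨hz4, hu8, h35⟩
        · rw [hu] at hnd
          rcases pair B _ hB3 hzpos hzB (fun p hp hle hd => hnd hp (hπB p hp hle) (by
              rwa [Nat.choose_symm_of_eq_add rfl])) with ⟨hk, -⟩ | ⟨hB4, hk⟩
          · exact absurd hk h1
          · exact ⟨ha.symm, Or.inr ⟨hB4, hk, hu.trans hk⟩⟩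
        · exfalso
          have hB4 : B = 4 := by
            by_contra h
            exact h35 5 (by norm_num) (hπB 5 (by norm_num) (by omega)) (by norm_num)
          rw [hu8, show (cls M a).card = 4 from hB4] at hnd
          exact hnd Nat.prime_three h3 (by decide)
      · exfalso
        rw [h8] at hnd
        rcases hu with hu | ⟨hz4, hu8, -⟩
        · rw [hu] at hnd
          rcases (show (cls M z).card = 3 ∨ (cls M z).card = 4 by omega) with hk | hk <;> rw [hk] at hnd <;>
            exact hnd Nat.prime_three h3 (by decide)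
        · rw [hu8] at hnd
          exact hnd Nat.prime_two h2 (by decide)
  set X := cls M a
  have hshape : Shape π X ∧ ∀ z ∉ X, (cls M z).card = Xᶜ.card := by
    by_cases hu : unit M a = Finset.univ
    · rcases ha with ha | ⟨h4, h8, -⟩
      · rw [hu, Finset.card_univ] at ha; omega
      · rw [hu, Finset.card_univ] at h8
        refine ⟨Or.inr ⟨Or.inr h8, h4, fun r hr hrn => ⟨fun hrπ => ?_, fun h => ?_⟩⟩, fun z _ => ?_⟩
        · have := hr.two_le
          have : r ≠ 4 := by rintro rfl; norm_num at hr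
          rcases hBπ r hr hrπ hrn with h | h <;> omega
        · rcases h with rfl | rfl <;> assumption
        · rw [card_cls_of_unit (a := a) (hu ▸ Finset.mem_univ z), Finset.card_compl, h8]
          show B = 8 - B
          omega
    obtain ⟨z, hz⟩ : ∃ z, z ∉ unit M a := by
      by_contra h; push Not at h; exact hu (Finset.eq_univ_of_forall h)
    obtain ⟨hBu, hz'⟩ := hout z hz
    have hXu : X = unit M a := Finset.eq_of_subset_of_card_le
      (fun x hx => mem_unit.2 ⟨1, one_mem _, mem_cls.1 hx⟩) hBu.ge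
    have hcompl : (unit M a)ᶜ = unit M z := by
      refine subset_antisymm (fun w hw => ?_) (fun w hw => Finset.mem_compl.2 fun h => ?_)
      · rw [Finset.mem_compl] at hw
        by_contra hwz
        obtain ⟨-, hw'⟩ := hout w hw
        have hd := unit_disjoint hwz
        have h2' : ∀ y ∈ ({z, w} : Finset α), 1 ≤ (unit M y).card := fun y _ => Finset.card_pos.2 ⟨y, self_mem_unit y⟩
        rcases hz' with ⟨-, hz1, hzu⟩ | ⟨-, hz3, hzu⟩ <;> rcases hw' with ⟨-, hw1, hwu⟩ | ⟨-, hw3, hwu⟩
        · -- two singletons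
          let Y := Finset.univ.filter fun y => (cls M y).card = 1
          have hY : ∀ g ∈ M, ∀ x, g x ∈ Y ↔ x ∈ Y := fun g hg x => by simp [Y, card_cls_map hg]
          have hdis : Disjoint (unit M a) Y := by
            rw [Finset.disjoint_left]
            intro x hx hx'
            simp [Y, card_cls_of_unit hx] at hx'
            omega
          have h2a : 2 ≤ (unit M a).card := by omega
          have hY2 : Y.card = 2 := by
            refine le_antisymm (hM.few_singles h3) (Finset.one_lt_card.2 ⟨z, by simp [Y, hz1], w, by simp [Y, hw1], ?_⟩)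
            rintro rfl; exact hwz (self_mem_unit _)
          rcases pair B 2 hB3 (by norm_num) (by omega) (fun p hp hle hd' =>
              hM.invariant_pair hdis unit_invariant hY h2a hp (hπB p hp hle) (by
                rw [← hBu, hY2, Nat.choose_symm_of_eq_add rfl]; exact hd')) with ⟨h, -⟩ | ⟨-, h⟩ <;> omega
        · have := hM.invariant_pair hd.symm unit_invariant unit_invariant (by omega) Nat.prime_two h2
          simp [hzu, hwu] at this
        · have := hM.invariant_pair hd unit_invariant unit_invariant (by omega) Nat.prime_two h2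
          simp [hzu, hwu] at this
        · have := hM.invariant_pair hd unit_invariant unit_invariant (by omega) Nat.prime_two h2
          rw [hzu, hwu] at this
          exact this (by decide)
      · exact Finset.disjoint_left.1 (unit_disjoint hz) h hw
    have hzc : (cls M z).card = (unit M z).card := by
      rcases hz' with ⟨-, h1, h2⟩ | ⟨-, h1, h2⟩ <;> simp [h1, h2]
    refine ⟨?_, fun w hw => ?_⟩
    · have hn : B + (unit M z).card = Fintype.card α := by
        rw [hBu, ← hcompl, Finset.card_add_card_compl]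
      rcases hz' with ⟨hpr, hz1, hzu⟩ | ⟨hB4, hz3, hzu⟩
      · rw [hzu, Finset.card_singleton] at hn
        left
        refine ⟨hn ▸ hpr, ?_, by show B = _; omega, fun r hr hrn => ⟨fun hrπ => ?_, fun h => hπB r hr (by omega)⟩⟩
        · by_contra h
          have : B = 3 := by omega
          rw [this] at hpr; norm_num at hpr
        · rcases hBπ r hr hrπ hrn with h | h <;> omega
      · right
        refine ⟨Or.inl (by omega), hB4, fun r hr hrn => ⟨fun hrπ => ?_, fun h => ?_⟩⟩
        · have := hr.two_le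
          have : r ≠ 4 := by rintro rfl; norm_num at hr
          rcases hBπ r hr hrπ hrn with h | h <;> omega
        · rcases h with rfl | rfl <;> assumption
    · rw [hXu, hcompl, ← hzc]
      exact card_cls_of_unit (hcompl ▸ Finset.mem_compl.2 (hXu ▸ hw))
  obtain ⟨hshape, hcls⟩ := hshape
  have hclsc : ∀ z ∉ X, cls M z = Xᶜ := fun z hz => Finset.eq_of_subset_of_card_le
    (fun y hy => Finset.mem_compl.2 fun hyX =>
      hz (mem_cls.2 (rel_trans (mem_cls.1 hyX) (rel_symm (mem_cls.1 hy))))) (hcls z hz).ge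
  have hrel : ∀ x y, Rel M x y ↔ (x ∈ X ↔ y ∈ X) := by
    intro x y
    by_cases hx : x ∈ X
    · rw [← mem_cls, ← cls_eq (mem_cls.1 hx)]; simp [hx, X]
    · rw [← mem_cls, hclsc x hx, Finset.mem_compl]; tauto
  have hN : Subgroup.normalizer (M : Set (Perm α)) ≤ pStab X := by
    intro g hg x y
    rw [← hrel, ← hrel]
    exact ⟨rel_map hg, fun h => by simpa using rel_map (inv_mem hg) h⟩
  refine ⟨X, hshape, (hM.eq_of_le inf_le_right (fun q hq hqd => ?_) (le_inf ((Subgroup.le_normalizer).trans hN) hM.le)).symm, hN⟩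
  refine pStab_pi (B := B) le_rfl ?_ h2 hπB q hq (hqd.trans (Subgroup.card_dvd_of_le inf_le_left))
  by_cases hX : X = Finset.univ
  · rw [(Finset.compl_eq_empty_iff X).2 hX]; exact Nat.zero_le _
  obtain ⟨z, hz⟩ : ∃ z, z ∉ X := by
    by_contra h; push Not at h; exact hX (Finset.eq_univ_of_forall h)
  rw [← hcls z hz]
  exact hmax z (Finset.mem_univ _)

end HallA

end Cfsg.Agent.AltHall
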