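/-
Existence and conjugacy of Hall subgroups of the symmetric and alternating groups.
-/
import Cfsg.Agent.Lib.AltHall.Main

set_option autoImplicit false

namespace Cfsg.Agent.AltHall

open Equiv MulAction

variable {α : Type*} [Fintype α] [DecidableEq α] {π : Set ℕ}

lemma isPiHall_eq_of_le {G : Type*} [Group G] [Finite G] {H K : Subgroup G} (hH : IsPiHall π H)
    (hK : ∀ p, p.Prime → p ∣ Nat.card K → p ∈ π) (hle : H ≤ K) : K = H := by
  refine le_antisymm ?_ hle
  rw [← Subgroup.relIndex_eq_one]
  by_contra h
  obtain ⟨p, hp, hpd⟩ := Nat.exists_prime_and_dvd h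
  exact hH.2 p hp (hK p hp (hpd.trans (Subgroup.index_dvd_card _)))
    (hpd.trans (Subgroup.relIndex_dvd_index_of_le hle))

lemma card_map_conj {G : Type*} [Group G] (g : G) (K : Subgroup G) :
    Nat.card (K.map (MulAut.conj g).toMonoidHom) = Nat.card K :=
  Subgroup.card_map_of_injective (MulAut.conj g).injective

lemma isPiHall_conj {G : Type*} [Group G] {H : Subgroup G} (hH : IsPiHall π H) (g : G) :
    IsPiHall π (H.map (MulAut.conj g).toMonoidHom) := by
  constructor
  · intro p hp h; rw [card_map_conj] at h; exact hH.1 p hp h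
  · intro p hp hpπ h
    rw [Subgroup.index_map_of_bijective (MulAut.conj g).bijective] at h
    exact hH.2 p hp hpπ h

lemma map_conj_mul {G : Type*} [Group G] (g h : G) (K : Subgroup G) :
    (K.map (MulAut.conj g).toMonoidHom).map (MulAut.conj h).toMonoidHom =
      K.map (MulAut.conj (h * g)).toMonoidHom := by
  rw [Subgroup.map_map]
  congr 1
  ext x
  simp

lemma index_dvd_factorial {K : Subgroup (Perm α)} : K.index ∣ (Fintype.card α).factorial := by
  have := Subgroup.index_dvd_card K
  rwa [Nat.card_perm, Nat.card_eq_fintype_card] at this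

lemma le_alt_of_odd {K : Subgroup (Perm α)} (h : ¬ 2 ∣ Nat.card K) : K ≤ alternatingGroup α := by
  intro g hg
  rw [Perm.mem_alternatingGroup]
  rcases Int.units_eq_one_or (Perm.sign g) with h1 | h1
  · exact h1
  · exfalso
    have hd : orderOf (Perm.sign g) ∣ orderOf g := orderOf_map_dvd Perm.sign g
    rw [h1, orderOf_eq_prime (p := 2) (by decide) (by decide)] at hd
    exact h (hd.trans (by rw [← Subgroup.orderOf_mk g hg]; exact orderOf_dvd_natCard _))

lemma alt_index_dvd_two : (alternatingGroup α).index ∣ 2 := by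
  rcases subsingleton_or_nontrivial α with h | h
  · haveI : Subsingleton (Perm α) := inferInstance
    rw [Subgroup.index_eq_one.2 (Subsingleton.elim _ _)]
    norm_num
  · rw [alternatingGroup.index_eq_two]

/-- From the symmetric to the alternating group. -/
theorem hallA_inter {M₀ : Subgroup (Perm α)} (h : IsPiHall π M₀) :
    HallA π (M₀ ⊓ alternatingGroup α) := by
  refine ⟨inf_le_right, fun p hp hd => h.1 p hp (hd.trans (Subgroup.card_dvd_of_le inf_le_left)), ?_⟩
  intro p hp hpπ hd
  refine h.2 p hp hpπ (hd.trans ?_)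
  have h1 := Subgroup.relIndex_mul_index (inf_le_right : M₀ ⊓ alternatingGroup α ≤ alternatingGroup α)
  have h2 := Subgroup.relIndex_mul_index (inf_le_left : M₀ ⊓ alternatingGroup α ≤ M₀)
  rw [Subgroup.inf_relIndex_left] at h2
  have h3 : (alternatingGroup α).relIndex M₀ ∣ (alternatingGroup α).index := Subgroup.relIndex_dvd_index_of_normal _ _
  obtain ⟨d, hd'⟩ := h3
  refine ⟨d, Nat.eq_of_mul_eq_mul_left (Nat.pos_of_ne_zero (show (alternatingGroup α).relIndex M₀ ≠ 0 from Subgroup.index_ne_zero_of_finite)) ?_⟩
  rw [h2, ← h1, hd']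
  ring

theorem Shape.two_mem {X : Finset α} (hX : Shape π X) : 2 ∈ π := by
  rcases hX with ⟨-, h5, -, h⟩ | ⟨h78, -, h⟩
  · exact (h 2 Nat.prime_two (by omega)).2 (by omega)
  · exact (h 2 Nat.prime_two (by omega)).2 (Or.inl rfl)

/-- The exceptional Hall subgroups of the symmetric group. -/
theorem Shape.isPiHall {X : Finset α} (hX : Shape π X) : IsPiHall π (pStab X) := by
  classical
  have hXc : Xᶜ.card = Fintype.card α - X.card := Finset.card_compl X
  have hle := Finset.card_le_univ X
  have hpi : ∀ p, p.Prime → p ∣ Nat.card (pStab X) → p ∈ π := by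
    refine pStab_pi (B := X.card) le_rfl ?_ hX.two_mem ?_ <;>
      rcases hX with ⟨hn, h5, hc, h⟩ | ⟨h78, hc, h⟩
    · omega
    · omega
    · intro p hp hle'; exact (h p hp (by omega)).2 (by omega)
    · intro p hp hle'
      have := hp.two_le
      have : p ≠ 4 := by rintro rfl; norm_num at hp
      exact (h p hp (by omega)).2 (by omega)
  refine ⟨hpi, fun p hp hpπ hd => ?_⟩
  have hpn : p ≤ Fintype.card α := hp.dvd_factorial.1 (hd.trans index_dvd_factorial)
  let f : α → Bool := fun x => decide (x ∈ X)
  have hHle : fibStab f ≤ pStab X := by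
    intro g hg a b
    have h1 : ∀ x, g x ∈ X ↔ x ∈ X := fun x => by
      have := congrFun hg x
      simpa [f] using this
    rw [h1, h1]
  have hH : Nat.card (fibStab f) = X.card.factorial * (Fintype.card α - X.card).factorial := by
    rw [card_fibStab, Fintype.prod_bool,
      show (Finset.univ.filter fun a => f a = true) = X by ext; simp [f],
      show (Finset.univ.filter fun a => f a = false) = Xᶜ by ext; simp [f], hXc]
  have hidx : (fibStab f).index = (Fintype.card α).choose X.card := by
    have := Subgroup.card_mul_index (fibStab f)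
    rw [hH, Nat.card_perm, Nat.card_eq_fintype_card, ← Nat.choose_mul_factorial_mul_factorial hle] at this
    apply Nat.eq_of_mul_eq_mul_left (Nat.mul_pos X.card.factorial_pos (Fintype.card α - X.card).factorial_pos)
    rw [this]; ring
  have hmul := Subgroup.relIndex_mul_index hHle
  rw [hidx] at hmul
  have hdc : p ∣ (Fintype.card α).choose X.card := hd.trans ⟨_, by rw [← hmul, mul_comm]⟩
  rcases hX with ⟨hn, h5, hc, h⟩ | ⟨h78, hc, h⟩
  · rw [hc, show (Fintype.card α).choose (Fintype.card α - 1) = Fintype.card α by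
      rw [Nat.choose_symm (by omega), Nat.choose_one_right]] at hdc
    have := (h p hp hpn).1 hpπ
    rw [(Nat.prime_dvd_prime_iff_eq hp hn).1 hdc] at this
    omega
  · rw [hc] at hdc hmul
    rcases (h p hp hpn).1 hpπ with rfl | rfl
    · rcases h78 with h7 | h8
      · rw [h7] at hdc; exact absurd hdc (by decide)
      · rw [h8] at hmul
        have hsw : 2 ∣ (fibStab f).relIndex (pStab X) := by
          have he : X.card = Xᶜ.card := by omega
          obtain ⟨e⟩ : Nonempty (X ≃ (Xᶜ : Finset α)) := ⟨Finset.equivOfCardEq he⟩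
          have hne : (fibStab f).relIndex (pStab X) ≠ 1 := by
            intro h1
            rw [Subgroup.relIndex_eq_one] at h1
            -- an element exchanging the two parts
            let g : Perm α := Function.Involutive.toPerm
              (fun x => if hx : x ∈ X then (e ⟨x, hx⟩ : α) else (e.symm ⟨x, Finset.mem_compl.2 hx⟩ : α))
              (by
                intro x
                by_cases hx : x ∈ X
                · have := Finset.mem_compl.1 (e ⟨x, hx⟩).2
                  simp [hx, this]
                · have := (e.symm ⟨x, Finset.mem_compl.2 hx⟩).2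
                  simp [hx, this])
            have hg : ∀ x, g x ∈ X ↔ x ∉ X := by
              intro x
              by_cases hx : x ∈ X
              · rw [show g x = (e ⟨x, hx⟩ : α) from dif_pos hx]
                exact iff_of_false (Finset.mem_compl.1 (e ⟨x, hx⟩).2) (not_not.2 hx)
              · rw [show g x = (e.symm ⟨x, Finset.mem_compl.2 hx⟩ : α) from dif_neg hx]
                exact iff_of_true (e.symm ⟨x, Finset.mem_compl.2 hx⟩).2 hx
            have := h1 (show g ∈ pStab X from fun a b => by rw [hg, hg]; tauto)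
            obtain ⟨x, hx⟩ := Finset.card_pos.1 (show 0 < X.card by omega)
            have h2 := congrFun this x
            simp [f, hx, hg] at h2
          obtain ⟨q, hq, hqd⟩ := Nat.exists_prime_and_dvd hne
          have hq70 : q ∣ Nat.choose 8 4 := hmul ▸ hqd.mul_right _
          have hqπ : q ∈ π := hpi q hq (hqd.trans (Subgroup.index_dvd_card _))
          have hq8 : q ≤ Fintype.card α := by
            have := hq.dvd_factorial.1 (hq70.trans (show Nat.choose 8 4 ∣ Nat.factorial 8 by decide))
            omega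
          rcases (h q hq hq8).1 hqπ with rfl | rfl
          · exact hqd
          · exact absurd hq70 (by decide)
        have := Nat.mul_dvd_mul hsw hd
        rw [hmul] at this
        exact absurd this (by decide)
    · rcases h78 with h7 | h8
      · rw [h7] at hdc; exact absurd hdc (by decide)
      · rw [h8] at hdc; exact absurd hdc (by decide)

variable {M M' : Subgroup (Perm α)}

lemma HallA.eq_alt (hM : HallA π M) (hall : All π (Fintype.card α)) : M = alternatingGroup α :=
  (hM.eq_of_le le_rfl (fun p hp h => hall p hp (prime_le_of_dvd hp h)) hM.le).symm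

/-- Every Hall subgroup of the alternating group extends to one of the symmetric group. -/
theorem HallA.extend (hM : HallA π M) :
    ∃ M₀ : Subgroup (Perm α), IsPiHall π M₀ ∧ M₀ ⊓ alternatingGroup α = M := by
  by_cases hn : Fintype.card α < 2
  · haveI : Subsingleton α := Fintype.card_le_one_iff_subsingleton.1 (by omega)
    refine ⟨⊤, ⟨fun p hp h => absurd (h.trans (by rw [Nat.card_unique])) hp.not_dvd_one, fun p hp _ h => ?_⟩,
      Subsingleton.elim _ _⟩
    rw [Subgroup.index_top] at h; exact hp.not_dvd_one h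
  by_cases h2 : 2 ∈ π
  · rcases hM.trichotomy with hfew | hall | ⟨X, hX, hMX, -⟩
    · haveI : Fact (Nat.Prime 2) := ⟨Nat.prime_two⟩
      have h2M : IsPGroup 2 M := IsPGroup.of_card
        (Nat.eq_prime_pow_of_unique_prime_dvd Nat.card_pos.ne' fun {d} hd hdd =>
          hfew d 2 hd Nat.prime_two (hM.pi d hd hdd) h2 (prime_le_of_dvd hd hdd) (by omega))
      obtain ⟨Q, hQ⟩ := h2M.exists_le_sylow
      refine ⟨Q, ⟨fun p hp h => ?_, fun p hp hpπ h => ?_⟩, ?_⟩
      · rw [(Nat.prime_dvd_prime_iff_eq hp Nat.prime_two).1 (hp.dvd_of_dvd_pow (Q.card_eq_multiplicity ▸ h))]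
        exact h2
      · have := hfew p 2 hp Nat.prime_two hpπ h2 (hp.dvd_factorial.1 (h.trans index_dvd_factorial)) (by omega)
        exact Q.not_dvd_index (this ▸ h)
      · refine hM.eq_of_le inf_le_right (fun p hp h => ?_) (le_inf hQ hM.le)
        have h' := h.trans (Subgroup.card_dvd_of_le (inf_le_left : (Q : Subgroup (Perm α)) ⊓ _ ≤ Q))
        rw [(Nat.prime_dvd_prime_iff_eq hp Nat.prime_two).1 (hp.dvd_of_dvd_pow (Q.card_eq_multiplicity ▸ h'))]
        exact h2
    · refine ⟨⊤, ⟨fun p hp h => hall p hp (prime_le_of_dvd hp h), fun p hp _ h => ?_⟩, ?_⟩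
      · rw [Subgroup.index_top] at h; exact hp.not_dvd_one h
      · rw [top_inf_eq, hM.eq_alt hall]
    · exact ⟨pStab X, hX.isPiHall, hMX.symm⟩
  · refine ⟨M, ⟨hM.pi, fun p hp hpπ h => ?_⟩, inf_eq_left.2 hM.le⟩
    rw [← Subgroup.relIndex_mul_index hM.le] at h
    rcases hp.dvd_mul.1 h with h | h
    · exact hM.idx p hp hpπ h
    · exact h2 ((Nat.prime_dvd_prime_iff_eq hp Nat.prime_two).1 (h.trans alt_index_dvd_two) ▸ hpπ)

lemma HallA.map_conj (hM : HallA π M) (g : Perm α) : HallA π (M.map (MulAut.conj g).toMonoidHom) := by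
  have hA : (alternatingGroup α).map (MulAut.conj g).toMonoidHom = alternatingGroup α := by
    have hle : (alternatingGroup α).map (MulAut.conj g).toMonoidHom ≤ alternatingGroup α := by
      rintro _ ⟨x, hx, rfl⟩
      exact (inferInstance : (alternatingGroup α).Normal).conj_mem x hx g
    exact Subgroup.eq_of_le_of_card_ge hle (card_map_conj g _).ge
  refine ⟨hA ▸ Subgroup.map_mono hM.le, fun p hp h => hM.pi p hp (card_map_conj g M ▸ h), fun p hp hpπ h => ?_⟩
  rw [← hA, Subgroup.relIndex_map_map_of_injective _ _ (MulAut.conj g).injective] at h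
  exact hM.idx p hp hpπ h

/-- Conjugacy in the alternating group. -/
theorem HallA.conj (hM : HallA π M) (hM' : HallA π M') :
    ∃ g ∈ alternatingGroup α, M' = M.map (MulAut.conj g).toMonoidHom := by
  classical
  rcases hM.trichotomy with hfew | hall | ⟨X, hX, hMX, -⟩
  · by_cases h0 : ∃ r, r.Prime ∧ r ∈ π ∧ r ≤ Fintype.card α
    · obtain ⟨r, hr, hrπ, hrn⟩ := h0
      have hrM : IsPGroup r M := IsPGroup.of_card
        (Nat.eq_prime_pow_of_unique_prime_dvd Nat.card_pos.ne' fun {d} hd hdd =>
          hfew d r hd hr (hM.pi d hd hdd) hrπ (prime_le_of_dvd hd hdd) hrn)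
      obtain ⟨g, hg, hgM⟩ := hM'.exists_conj hr hrπ hrM hM.le
      refine ⟨g, hg, (hM.map_conj g).eq_of_le hM'.le hM'.pi ?_⟩
      rintro _ ⟨x, hx, rfl⟩
      exact hgM x hx
    · push Not at h0
      have e : ∀ N : Subgroup (Perm α), HallA π N → N = ⊥ := fun N hN => by
        rw [← Subgroup.card_eq_one]
        by_contra h
        obtain ⟨p, hp, hd⟩ := Nat.exists_prime_and_dvd h
        have := h0 p hp (hN.pi p hp hd)
        have := prime_le_of_dvd hp hd
        omega
      exact ⟨1, one_mem _, by rw [e M hM, e M' hM', Subgroup.map_bot]⟩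
  · refine ⟨1, one_mem _, ?_⟩
    rw [hM.eq_alt hall, hM'.eq_alt hall]
    ext x; simp
  · rcases hM'.trichotomy with hfew | hall | ⟨X', hX', hMX', -⟩
    · exfalso
      rcases hX with ⟨-, h5, -, h⟩ | ⟨h78, -, h⟩
      · exact absurd (hfew 2 3 Nat.prime_two Nat.prime_three ((h 2 Nat.prime_two (by omega)).2 (by omega))
          ((h 3 Nat.prime_three (by omega)).2 (by omega)) (by omega) (by omega)) (by norm_num)
      · exact absurd (hfew 2 3 Nat.prime_two Nat.prime_three ((h 2 Nat.prime_two (by omega)).2 (by omega))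
          ((h 3 Nat.prime_three (by omega)).2 (by omega)) (by omega) (by omega)) (by norm_num)
    · exfalso
      rcases hX with ⟨hn, -, -, h⟩ | ⟨h78, -, h⟩
      · have := (h _ hn le_rfl).1 (hall _ hn le_rfl)
        omega
      · have := (h 5 (by norm_num) (by omega)).1 (hall 5 (by norm_num) (by omega))
        omega
    · have hcard : X.card = X'.card := by
        rcases hX with ⟨hn, -, hc, hπ5⟩ | ⟨h78, hc, hπ5⟩ <;> rcases hX' with ⟨hn', -, hc', hπ5'⟩ | ⟨h78', hc', hπ5'⟩
        · omega
        · rcases h78' with h7 | h8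
          · exfalso
            have := (hπ5 5 (by norm_num) (by omega)).2 (by omega)
            have := (hπ5' 5 (by norm_num) (by omega)).1 this
            omega
          · rw [h8] at hn; norm_num at hn
        · rcases h78 with h7 | h8
          · exfalso
            have := (hπ5' 5 (by norm_num) (by omega)).2 (by omega)
            have := (hπ5 5 (by norm_num) (by omega)).1 this
            omega
          · rw [h8] at hn'; norm_num at hn'
        · omega
      obtain ⟨a, ha, b, hb, hab⟩ := Finset.one_lt_card.1 (show 1 < X.card by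
        rcases hX with ⟨-, h5, hc, -⟩ | ⟨-, hc, -⟩ <;> omega)
      let e0 : X ≃ X' := Finset.equivOfCardEq hcard
      obtain ⟨g0, hg0⟩ : ∃ g0 : Perm α, ∀ x : X, g0 x = e0 x := ⟨e0.extendSubtype, fun x => e0.extendSubtype_apply_of_mem _ x.2⟩
      have himg : ∀ g : Perm α, (∀ x ∈ X, g x ∈ X') → ∀ x, g x ∈ X' ↔ x ∈ X := by
        intro g hg x
        refine ⟨fun h => ?_, hg x⟩
        have hs : X.image g = X' := Finset.eq_of_subset_of_card_le (Finset.image_subset_iff.2 hg)
          (by rw [Finset.card_image_of_injective _ g.injective, hcard])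
        rw [← hs] at h
        obtain ⟨y, hy, hyx⟩ := Finset.mem_image.1 h
        exact g.injective hyx ▸ hy
      have key : ∀ g : Perm α, g ∈ alternatingGroup α → (∀ x ∈ X, g x ∈ X') →
          M' = M.map (MulAut.conj g).toMonoidHom := by
        intro g hgA hg
        have h := himg g hg
        refine (hM.map_conj g).eq_of_le hM'.le hM'.pi ?_
        rintro _ ⟨x, hx, rfl⟩
        rw [hMX] at hx
        rw [hMX']
        refine Subgroup.mem_inf.2 ⟨fun u v => ?_, mul_mem (mul_mem hgA hx.2) (inv_mem hgA)⟩
        have hx' := hx.1 (g⁻¹ u) (g⁻¹ v)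
        rw [← h (x (g⁻¹ u)), ← h (x (g⁻¹ v)), ← h (g⁻¹ u), ← h (g⁻¹ v)] at hx'
        simpa using hx'
      rcases Int.units_eq_one_or (Perm.sign g0) with hs | hs
      · exact ⟨g0, hs, key g0 hs fun x hx => by rw [hg0 ⟨x, hx⟩]; exact (e0 _).2⟩
      · have hA : g0 * swap a b ∈ alternatingGroup α := by
          rw [Perm.mem_alternatingGroup, map_mul, hs, Perm.sign_swap hab]; rfl
        refine ⟨_, hA, key _ hA fun x hx => ?_⟩
        have : swap a b x ∈ X := by rw [swap_apply_def]; split_ifs <;> assumption
        rw [Perm.mul_apply, hg0 ⟨_, this⟩]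
        exact (e0 _).2

/-- Conjugacy in the symmetric group. -/
theorem hall_conj {H K : Subgroup (Perm α)} (hH : IsPiHall π H) (hK : IsPiHall π K) :
    ∃ g : Perm α, K = H.map (MulAut.conj g).toMonoidHom := by
  classical
  obtain ⟨g, -, hg⟩ := (hallA_inter hH).conj (hallA_inter hK)
  by_cases h2 : 2 ∈ π
  · rcases (hallA_inter hK).trichotomy with hfew | hall | ⟨X, hX, -, hN⟩
    · by_cases hn : Fintype.card α < 2
      · haveI : Subsingleton α := Fintype.card_le_one_iff_subsingleton.1 (by omega)
        exact ⟨1, Subsingleton.elim _ _⟩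
      haveI : Fact (Nat.Prime 2) := ⟨Nat.prime_two⟩
      have e : ∀ L : Subgroup (Perm α), IsPiHall π L → ∃ P : Sylow 2 (Perm α), (P : Subgroup (Perm α)) = L := by
        intro L hL
        have hp : IsPGroup 2 L := IsPGroup.of_card (Nat.eq_prime_pow_of_unique_prime_dvd Nat.card_pos.ne'
          fun {d} hd hdd => hfew d 2 hd Nat.prime_two (hL.1 d hd hdd) h2 (prime_le_of_dvd hd hdd) (by omega))
        exact ⟨hp.toSylow (hL.2 2 Nat.prime_two h2), rfl⟩
      obtain ⟨P, rfl⟩ := e H hH
      obtain ⟨Q, rfl⟩ := e K hK
      obtain ⟨x, rfl⟩ := MulAction.exists_smul_eq (Perm α) P Q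
      exact ⟨x, rfl⟩
    · have e : ∀ L : Subgroup (Perm α), IsPiHall π L → L = ⊤ := fun L hL =>
        (isPiHall_eq_of_le hL (fun p hp h => hall p hp (prime_le_of_dvd hp h)) le_top).symm
      refine ⟨1, ?_⟩
      rw [e H hH, e K hK]
      exact (Subgroup.map_top_of_surjective _ (MulAut.conj (1 : Perm α)).surjective).symm
    · refine ⟨g, ?_⟩
      have hle : ∀ L : Subgroup (Perm α), L ⊓ alternatingGroup α = K ⊓ alternatingGroup α → L ≤ pStab X := by
        intro L hL x hx
        refine hN ?_
        rw [← hL, Subgroup.mem_normalizer_iff]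
        intro y
        constructor
        · intro hy
          exact Subgroup.mem_inf.2 ⟨mul_mem (mul_mem hx hy.1) (inv_mem hx),
            (inferInstance : (alternatingGroup α).Normal).conj_mem y hy.2 x⟩
        · intro hy
          refine ⟨?_, ?_⟩
          · have := mul_mem (mul_mem (inv_mem hx) hy.1) hx
            simpa [mul_assoc] using this
          · have := (inferInstance : (alternatingGroup α).Normal).conj_mem _ hy.2 x⁻¹
            simpa [mul_assoc] using this
      have h1 := hle K rfl
      have h2' := hle _ (show H.map (MulAut.conj g).toMonoidHom ⊓ alternatingGroup α = K ⊓ alternatingGroup α by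
        rw [hg, Subgroup.map_inf _ _ _ (MulAut.conj g).injective]
        congr 1
        refine (Subgroup.eq_of_le_of_card_ge ?_ (card_map_conj g _).ge).symm
        rintro _ ⟨x, hx, rfl⟩
        exact (inferInstance : (alternatingGroup α).Normal).conj_mem x hx g)
      rw [← isPiHall_eq_of_le hK hX.isPiHall.1 h1, isPiHall_eq_of_le (isPiHall_conj hH g) hX.isPiHall.1 h2']
  · refine ⟨g, ?_⟩
    have e : ∀ L : Subgroup (Perm α), IsPiHall π L → L ⊓ alternatingGroup α = L := fun L hL =>
      inf_eq_left.2 (le_alt_of_odd fun h => h2 (hL.1 2 Nat.prime_two h))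
    rw [e K hK, e H hH] at hg
    exact hg

/-- Hall subgroups of the group `alternatingGroup α` itself. -/
theorem isPiHall_alt_iff {N : Subgroup (alternatingGroup α)} :
    IsPiHall π N ↔ HallA π (N.map (alternatingGroup α).subtype) := by
  have h1 : Nat.card (N.map (alternatingGroup α).subtype) = Nat.card N :=
    Subgroup.card_map_of_injective (alternatingGroup α).subtype_injective
  have h2 : (N.map (alternatingGroup α).subtype).relIndex (alternatingGroup α) = N.index := by
    rw [Subgroup.relIndex, Subgroup.subgroupOf, Subgroup.comap_map_eq_self_of_injective (alternatingGroup α).subtype_injective]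
  exact ⟨fun h => ⟨Subgroup.map_subtype_le _, h1.symm ▸ h.1, h2.symm ▸ h.2⟩,
    fun h => ⟨h1 ▸ h.pi, h2 ▸ h.idx⟩⟩

end Cfsg.Agent.AltHall
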